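import Cfsg.Agent.ClassTech.UnitaryCert
import Cfsg.Agent.Lib.LinearGroup.PSL27
import Cfsg.Prelude.Def_Classical
import Mathlib.FieldTheory.Finite.Basic
import Mathlib.Algebra.CharP.CharAndCard

/-!
# `PSU 3 (3)` contains `PSL₂(7)`
-/

set_option autoImplicit false
set_option maxRecDepth 100000
set_option synthInstance.maxSize 2000

namespace Cfsg.Agent.ClassTech.UnitaryKlein

open Matrix Equiv Cfsg Cfsg.Agent.ClassTech.UnitaryCert Cfsg.Agent.LinearGroup

local instance : Fact (Nat.Prime 7) := ⟨by decide⟩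

def cadd (x y : Code) : Code := (x.1 + y.1, x.2 + y.2)
def cmul (x y : Code) : Code := (x.1 * y.1 - x.2 * y.2, x.1 * y.2 + x.2 * y.1)
def cconj (x : Code) : Code := (x.1, -x.2)

abbrev Row : Type := Code × Code × Code

def cdot (u v : Row) : Code :=
  cadd (cadd (cmul u.1 v.1) (cmul u.2.1 v.2.1)) (cmul u.2.2 v.2.2)

def col0 (m : CMat) : Row := (m.1.1, m.2.1.1, m.2.2.1)
def col1 (m : CMat) : Row := (m.1.2.1, m.2.1.2.1, m.2.2.2.1)
def col2 (m : CMat) : Row := (m.1.2.2, m.2.1.2.2, m.2.2.2.2)
def rconj (u : Row) : Row := (cconj u.1, cconj u.2.1, cconj u.2.2)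

def mulRow (u : Row) (m : CMat) : Row := (cdot u (col0 m), cdot u (col1 m), cdot u (col2 m))
def mulM (a b : CMat) : CMat := (mulRow a.1 b, mulRow a.2.1 b, mulRow a.2.2 b)

def cOne : CMat := (((1, 0), (0, 0), (0, 0)), ((0, 0), (1, 0), (0, 0)), ((0, 0), (0, 0), (1, 0)))

/-- The columns are orthonormal for the hermitian form. -/
def UnitaryC (m : CMat) : Prop :=
  cdot (col0 m) (rconj (col0 m)) = (1, 0) ∧ cdot (col0 m) (rconj (col1 m)) = (0, 0) ∧
  cdot (col0 m) (rconj (col2 m)) = (0, 0) ∧ cdot (col1 m) (rconj (col0 m)) = (0, 0) ∧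
  cdot (col1 m) (rconj (col1 m)) = (1, 0) ∧ cdot (col1 m) (rconj (col2 m)) = (0, 0) ∧
  cdot (col2 m) (rconj (col0 m)) = (0, 0) ∧ cdot (col2 m) (rconj (col1 m)) = (0, 0) ∧
  cdot (col2 m) (rconj (col2 m)) = (1, 0)

def cneg (x : Code) : Code := (-x.1, -x.2)

def cdet (m : CMat) : Code :=
  cadd (cadd (cadd (cadd (cadd
    (cmul (cmul m.1.1 m.2.1.2.1) m.2.2.2.2)
    (cneg (cmul (cmul m.1.1 m.2.1.2.2) m.2.2.2.1)))
    (cneg (cmul (cmul m.1.2.1 m.2.1.1) m.2.2.2.2)))
    (cmul (cmul m.1.2.1 m.2.1.2.2) m.2.2.1))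
    (cmul (cmul m.1.2.2 m.2.1.1) m.2.2.2.1))
    (cneg (cmul (cmul m.1.2.2 m.2.1.2.1) m.2.2.1))

theorem unitary_gens : (UnitaryC genU ∧ cdet genU = (1, 0)) ∧ UnitaryC genL ∧ cdet genL = (1, 0) := by
  unfold UnitaryC
  decide +kernel

/-- The `i`-th permutation of the table, as a function. -/
def permAt (i : ℕ) (k : Fin 7) : Fin 7 := ((elems[i]?.getD ([], cOne)).1)[k.val]?.getD 0

/-- The `i`-th matrix of the table. -/
def matAt (i : ℕ) : CMat := (elems[i]?.getD ([], cOne)).2

theorem start : (∀ k, permAt 0 k = k) ∧ matAt 0 = cOne := by decide +kernel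

theorem stepU : ∀ i : Fin 168, (nextU[i.val]?.getD 0) < 168 ∧
    (∀ k, permAt (nextU[i.val]?.getD 0) k = permAt i (PSL27.imgU k)) ∧
    matAt (nextU[i.val]?.getD 0) = mulM (matAt i) genU := by decide +kernel

theorem stepL : ∀ i : Fin 168, (nextL[i.val]?.getD 0) < 168 ∧
    (∀ k, permAt (nextL[i.val]?.getD 0) k = permAt i (PSL27.imgL k)) ∧
    matAt (nextL[i.val]?.getD 0) = mulM (matAt i) genL := by decide +kernel

theorem perm_trivial : ∀ i : Fin 168, (∀ k, permAt i k = k) → i.val = 0 := by decide +kernel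

variable {F : Type*} [Field F] [CharP F 3] (s : F)

/-- The value of a code. -/
noncomputable def val (x : Code) : F :=
  ZMod.castHom (dvd_refl 3) F x.1 + ZMod.castHom (dvd_refl 3) F x.2 * s

theorem val_add (x y : Code) : val s (cadd x y) = val s x + val s y := by
  simp only [val, cadd, map_add]
  ring

theorem val_neg (x : Code) : val s (cneg x) = -val s x := by
  simp only [val, cneg, map_neg]
  ring

theorem val_zero : val s (0, 0) = 0 := by simp [val]
theorem val_one : val s (1, 0) = 1 := by simp [val]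

variable {s} (hs : s * s = -1)
include hs

theorem val_mul (x y : Code) : val s (cmul x y) = val s x * val s y := by
  simp only [val, cmul, map_add, map_sub, map_mul]
  linear_combination -(ZMod.castHom (dvd_refl 3) F x.2 * ZMod.castHom (dvd_refl 3) F y.2) * hs

theorem val_conj (x : Code) : val s (cconj x) = (val s x) ^ 3 := by
  haveI : Fact (Nat.Prime 3) := ⟨Nat.prime_three⟩
  simp only [val, cconj, map_neg]
  rw [add_pow_char, mul_pow, ← map_pow, ← map_pow, ZMod.pow_card, ZMod.pow_card,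
    show s ^ 3 = -s by linear_combination s * hs]
  ring

omit hs
variable (s)

/-- The matrix of a code. -/
noncomputable def toMat (m : CMat) : Matrix (Fin 3) (Fin 3) F :=
  !![val s m.1.1, val s m.1.2.1, val s m.1.2.2; val s m.2.1.1, val s m.2.1.2.1, val s m.2.1.2.2;
    val s m.2.2.1, val s m.2.2.2.1, val s m.2.2.2.2]

theorem toMat_one : toMat s cOne = 1 := by
  simp only [toMat, cOne, val_zero, val_one]
  exact Matrix.one_fin_three.symm

variable {s}
include hs

theorem toMat_mul (a b : CMat) : toMat s (mulM a b) = toMat s a * toMat s b := by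
  simp only [toMat, mulM, mulRow, cdot, col0, col1, col2, val_add, val_mul hs, Matrix.mul_fin_three]

theorem det_toMat {m : CMat} (h : cdet m = (1, 0)) : (toMat s m).det = 1 := by
  rw [Matrix.det_fin_three]
  have h1 := congrArg (val s) h
  simp only [cdet, val_add, val_neg, val_mul hs, val_one] at h1
  simp only [toMat, Matrix.of_apply, Matrix.cons_val', Matrix.cons_val_zero, Matrix.cons_val_one,
    Matrix.cons_val_two, Matrix.tail_cons, Matrix.head_cons, Matrix.empty_val',
    Matrix.cons_val_fin_one, Matrix.vecHead]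
  linear_combination h1

theorem preserves {m : CMat} (h : UnitaryC m) (u v : Fin 3 → F) :
    hermForm 3 F 3 (toMat s m *ᵥ u) (toMat s m *ᵥ v) = hermForm 3 F 3 u v := by
  haveI : Fact (Nat.Prime 3) := ⟨Nat.prime_three⟩
  obtain ⟨h00, h01, h02, h10, h11, h12, h20, h21, h22⟩ := h
  replace h00 := congrArg (val s) h00
  replace h01 := congrArg (val s) h01
  replace h02 := congrArg (val s) h02
  replace h10 := congrArg (val s) h10
  replace h11 := congrArg (val s) h11
  replace h12 := congrArg (val s) h12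
  replace h20 := congrArg (val s) h20
  replace h21 := congrArg (val s) h21
  replace h22 := congrArg (val s) h22
  simp only [cdot, col0, col1, col2, rconj, val_add, val_mul hs, val_conj hs, val_zero,
    val_one] at h00 h01 h02 h10 h11 h12 h20 h21 h22
  simp only [hermForm, toMat, Fin.sum_univ_three, Matrix.mulVec, dotProduct, Matrix.of_apply,
    Matrix.cons_val', Matrix.cons_val_zero, Matrix.cons_val_one, Matrix.cons_val_two,
    Matrix.tail_cons, Matrix.head_cons, Matrix.empty_val', Matrix.cons_val_fin_one, Matrix.vecHead, add_pow_char,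
    mul_pow]
  linear_combination u 0 * v 0 ^ 3 * h00 + u 0 * v 1 ^ 3 * h01 + u 0 * v 2 ^ 3 * h02 +
    u 1 * v 0 ^ 3 * h10 + u 1 * v 1 ^ 3 * h11 + u 1 * v 2 ^ 3 * h12 +
    u 2 * v 0 ^ 3 * h20 + u 2 * v 1 ^ 3 * h21 + u 2 * v 2 ^ 3 * h22

/-- An element of `SU 3 (3)` from a code. -/
noncomputable def suElem {m : CMat} (h : UnitaryC m) (hd : cdet m = (1, 0)) : SU 3 F 3 :=
  ⟨⟨toMat s m, det_toMat hs hd⟩, fun u v => preserves hs h u v⟩

theorem suElem_coe {m : CMat} (h : UnitaryC m) (hd : cdet m = (1, 0)) :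
    ((suElem hs h hd : SU 3 F 3) : SpecialLinearGroup (Fin 3) F).1 = toMat s m := rfl

theorem psu_contains [Finite F] :
    ∃ ψ : Matrix.ProjectiveSpecialLinearGroup (Fin 2) (ZMod 7) →* PSU 3 F 3,
      Function.Injective ψ := by
  classical
  set u : Matrix.ProjectiveSpecialLinearGroup (Fin 2) (ZMod 7) := QuotientGroup.mk PSL27.upper
  set l : Matrix.ProjectiveSpecialLinearGroup (Fin 2) (ZMod 7) := QuotientGroup.mk PSL27.lower
  have hpu : ⇑(PSL27.onMatchingsP u) = PSL27.imgU :=
    famHom_eq _ PSL27.enc_injective PSL27.stab_eq_top PSL27.upper PSL27.imgU PSL27.relU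
  have hpl : ⇑(PSL27.onMatchingsP l) = PSL27.imgL :=
    famHom_eq _ PSL27.enc_injective PSL27.stab_eq_top PSL27.lower PSL27.imgL PSL27.relL
  set U := suElem hs unitary_gens.1.1 unitary_gens.1.2 with hU
  set L := suElem hs unitary_gens.2.1 unitary_gens.2.2 with hL
  set D : Subgroup (Perm (Fin 7) × SU 3 F 3) :=
    Subgroup.closure {(PSL27.onMatchingsP u, U), (PSL27.onMatchingsP l, L)} with hD
  have hmem : ∀ d ∈ D, ∃ i : Fin 168, (∀ k, d.1 k = permAt i k) ∧
      (d.2 : SpecialLinearGroup (Fin 3) F).1 = toMat s (matAt i) := by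
    intro d hd
    rw [hD, ← Subgroup.mem_toSubmonoid, Subgroup.closure_toSubmonoid_of_finite] at hd
    induction hd using Submonoid.closure_induction_right with
    | one =>
      refine ⟨⟨0, by norm_num⟩, fun k => (start.1 k).symm, ?_⟩
      show (1 : Matrix (Fin 3) (Fin 3) F) = toMat s (matAt 0)
      rw [start.2, toMat_one]
    | mul_right x hx y hy ih =>
      obtain ⟨i, hi1, hi2⟩ := ih
      rcases hy with rfl | rfl
      · obtain ⟨hlt, hp, hm⟩ := stepU i
        refine ⟨⟨_, hlt⟩, fun k => ?_, ?_⟩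
        · show x.1 (PSL27.onMatchingsP u k) = permAt (nextU[i.val]?.getD 0) k
          rw [hpu, hi1, hp k]
        · show (x.2 : SpecialLinearGroup (Fin 3) F).1 * toMat s genU = toMat s (matAt _)
          rw [hi2, hm, toMat_mul hs]
      · obtain ⟨hlt, hp, hm⟩ := stepL i
        refine ⟨⟨_, hlt⟩, fun k => ?_, ?_⟩
        · show x.1 (PSL27.onMatchingsP l k) = permAt (nextL[i.val]?.getD 0) k
          rw [hpl, hi1, hp k]
        · show (x.2 : SpecialLinearGroup (Fin 3) F).1 * toMat s genL = toMat s (matAt _)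
          rw [hi2, hm, toMat_mul hs]
  set π := (MonoidHom.fst (Perm (Fin 7)) (SU 3 F 3)).comp D.subtype with hπ
  have hπi : Function.Injective π := by
    rw [injective_iff_map_eq_one]
    intro d hd
    obtain ⟨i, hi1, hi2⟩ := hmem d d.2
    have hd' : (d : Perm (Fin 7) × SU 3 F 3).1 = 1 := hd
    have hi0 : i.val = 0 := perm_trivial i fun k => by rw [← hi1 k, hd']; rfl
    refine Subtype.ext (Prod.ext hd' (Subtype.ext (Subtype.ext ?_)))
    rw [hi2, hi0, start.2, toMat_one]
    rfl
  have hgen : ∀ x, PSL27.onMatchingsP x ∈ π.range := by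
    intro x
    have hx : x ∈ (Subgroup.closure ({u, l} : Set _)) := by
      have h0 : Subgroup.closure ({u, l} : Set _) = ⊤ := by
        rw [← Subgroup.map_top_of_surjective _
          (QuotientGroup.mk'_surjective (Subgroup.center PSL27.G1)), ← PSL27.closure_gens,
          MonoidHom.map_closure, Set.image_insert_eq, Set.image_singleton]
        rfl
      rw [h0]; exact Subgroup.mem_top _
    revert x
    suffices h : Subgroup.closure ({u, l} : Set _) ≤ π.range.comap PSL27.onMatchingsP from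
      fun x hx => h hx
    rw [Subgroup.closure_le]
    rintro _ (rfl | rfl)
    · exact ⟨⟨_, Subgroup.subset_closure (Set.mem_insert _ _)⟩, rfl⟩
    · exact ⟨⟨_, Subgroup.subset_closure (Set.mem_insert_of_mem _ rfl)⟩, rfl⟩
  let ρ : Matrix.ProjectiveSpecialLinearGroup (Fin 2) (ZMod 7) →* SU 3 F 3 :=
    ((MonoidHom.snd (Perm (Fin 7)) (SU 3 F 3)).comp D.subtype).comp
      ((MonoidHom.ofInjective hπi).symm.toMonoidHom.comp (PSL27.onMatchingsP.codRestrict π.range hgen))
  have hval : ∀ (x : Matrix.ProjectiveSpecialLinearGroup (Fin 2) (ZMod 7)) (d : D),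
      π d = PSL27.onMatchingsP x → ρ x = (d : Perm (Fin 7) × SU 3 F 3).2 := by
    intro x d hd
    have hh : (MonoidHom.ofInjective hπi).symm (PSL27.onMatchingsP.codRestrict π.range hgen x) = d := by
      rw [MulEquiv.symm_apply_eq]
      exact Subtype.ext hd.symm
    show ((((MonoidHom.ofInjective hπi).symm (PSL27.onMatchingsP.codRestrict π.range hgen x) : D) :
      Perm (Fin 7) × SU 3 F 3)).2 = _
    rw [hh]
  have hρu : ρ u = U := hval u ⟨_, Subgroup.subset_closure (Set.mem_insert _ _)⟩ rfl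
  have hρl : ρ l = L := hval l ⟨_, Subgroup.subset_closure (Set.mem_insert_of_mem _ rfl)⟩ rfl
  haveI : IsSimpleGroup (Matrix.ProjectiveSpecialLinearGroup (Fin 2) (ZMod 7)) :=
    Matrix.ProjectiveSpecialLinearGroup.rank_two_simple (by simp)
  refine ⟨(QuotientGroup.mk' _).comp ρ, injective_of_simple _ u fun h => ?_⟩
  have hc : U ∈ Subgroup.center (SU 3 F 3) := by
    rw [← hρu]
    exact (QuotientGroup.eq_one_iff _).mp h
  have h1 : toMat s genL * toMat s genU = toMat s genU * toMat s genL :=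
    congrArg (fun x : SU 3 F 3 => (x : SpecialLinearGroup (Fin 3) F).1)
      (Subgroup.mem_center_iff.mp hc L)
  rw [← toMat_mul hs, ← toMat_mul hs] at h1
  have h2 := congrFun (congrFun h1 0) 0
  have h3 := congrFun (congrFun h1 0) 1
  simp only [toMat, Matrix.of_apply, Matrix.cons_val', Matrix.cons_val_zero, Matrix.cons_val_one,
    Matrix.empty_val', Matrix.cons_val_fin_one] at h2 h3
  have hvi : ∀ x : Code, val s x = 0 → x = (0, 0) := by
    intro x hx
    by_contra hne
    have h4 : val s (cmul x (cconj x)) = 0 := by rw [val_mul hs, hx, zero_mul]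
    have h5 : ∀ y : Code, y ≠ (0, 0) → cmul y (cconj y) = (1, 0) ∨ cmul y (cconj y) = (2, 0) := by
      decide +kernel
    rcases h5 x hne with h6 | h6
    · rw [h6, val_one] at h4
      exact one_ne_zero h4
    · rw [h6] at h4
      simp only [val, map_zero, zero_mul, add_zero, map_ofNat] at h4
      have h7 : (3 : F) = 0 := by exact_mod_cast CharP.cast_eq_zero F 3
      exact one_ne_zero (α := F) (by linear_combination h7 - h4)
  have hinj : ∀ x y : Code, val s x = val s y → x = y := by
    intro x y hxy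
    have h4 := hvi (cadd x (cneg y)) (by rw [val_add, val_neg, hxy, add_neg_cancel])
    simp only [cadd, cneg, Prod.mk.injEq, ← sub_eq_add_neg, sub_eq_zero] at h4
    exact Prod.ext h4.1 h4.2
  have h8 : (mulM genL genU).1.1 ≠ (mulM genU genL).1.1 ∨
      (mulM genL genU).1.2.1 ≠ (mulM genU genL).1.2.1 := by decide +kernel
  exact h8.elim (fun h9 => h9 (hinj _ _ h2)) (fun h9 => h9 (hinj _ _ h3))

end Cfsg.Agent.ClassTech.UnitaryKlein
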