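import Cfsg.Prelude.Def_KGroupFacts
import Cfsg.Prelude.Def_EvenTechniques
import Cfsg.Agent.Lib.Components.Balance
import Cfsg.Agent.Lib.Components.PComponents

/-!
# Images of local subgroups in `X / O_{p'}(X)`
-/

set_option autoImplicit false
set_option linter.style.haveILetI false

namespace Cfsg.Agent.ClassTech

open Subgroup
open scoped commutatorElement IsMulCommutative
open Cfsg.Agent.Components

variable {X : Type*} [Group X] [Finite X] {p : ℕ} [hp : Fact p.Prime]

/-- Modulo a normal `p'`-subgroup the normalizer of a `p`-subgroup maps onto the normalizer of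
its image. -/
theorem map_normalizer_of_coprime_ker {Y : Type*} [Group Y] (π : X →* Y)
    (hπ : Function.Surjective π) (hker : (Nat.card π.ker).Coprime p) {R : Subgroup X}
    (hR : IsPGroup p R) :
    (Subgroup.normalizer (R : Set X)).map π = Subgroup.normalizer (R.map π : Set Y) := by
  refine le_antisymm (le_normalizer_map π) fun y hy => ?_
  obtain ⟨x, rfl⟩ := hπ y
  set M := (R.map π).comap π with hM
  have hRM : R ≤ M := le_comap_map π R
  set R' := R.map (MulAut.conj x).toMonoidHom with hR'
  have hR'M : R' ≤ M := by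
    rintro _ ⟨r, hr, rfl⟩
    show π (x * r * x⁻¹) ∈ R.map π
    rw [map_mul, map_mul, map_inv]
    exact (mem_normalizer_iff.mp hy (π r)).mp ⟨r, hr, rfl⟩
  have hinj : R ⊓ π.ker = ⊥ := Thompson.inf_eq_bot_of_isPGroup_of_coprime hR hker
  have hcardM : Nat.card M = Nat.card R * Nat.card π.ker := by
    have h1 : Nat.card M = Nat.card (R.map π) * Nat.card π.ker := by
      have e1 : Nat.card M = Nat.card (π.subgroupMap M).ker * Nat.card (M.map π) := by
        rw [← Subgroup.card_mul_index (π.subgroupMap M).ker, Subgroup.index_ker,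
          MonoidHom.range_eq_top.mpr (π.subgroupMap_surjective M), Subgroup.card_top]
      have e2 : Nat.card (π.subgroupMap M).ker = Nat.card π.ker := by
        have hkM : π.ker ≤ M := fun k hk => by
          show π k ∈ R.map π
          rw [MonoidHom.mem_ker.mp hk]
          exact one_mem _
        refine (Nat.card_congr ((Equiv.subtypeSubtypeEquivSubtypeExists _ _).trans
          (Equiv.subtypeEquivRight fun a => ?_)))
        constructor
        · rintro ⟨_, hb⟩
          exact congrArg Subtype.val (MonoidHom.mem_ker.mp hb)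
        · intro ha
          exact ⟨hkM ha, MonoidHom.mem_ker.mpr (Subtype.ext ha)⟩
      rw [e1, e2, hM, map_comap_eq_self_of_surjective hπ, mul_comm]
    have h2 : Nat.card (R.map π) = Nat.card R := by
      refine (Nat.card_congr (Equiv.ofBijective (π.subgroupMap R) ⟨?_,
        π.subgroupMap_surjective R⟩)).symm
      rw [← MonoidHom.ker_eq_bot_iff, eq_bot_iff]
      intro r hr
      have : (r : X) ∈ R ⊓ π.ker := ⟨r.2, congrArg Subtype.val (MonoidHom.mem_ker.mp hr)⟩
      rw [hinj] at this
      exact Subgroup.mem_bot.mpr (Subtype.ext (Subgroup.mem_bot.mp this))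
    rw [h1, h2]
  have hidx : ∀ S : Subgroup X, S ≤ M → Nat.card S = Nat.card R → ¬ p ∣ (S.subgroupOf M).index := by
    intro S hS hc hdvd
    have h := Subgroup.card_mul_index (S.subgroupOf M)
    rw [Nat.card_congr (Subgroup.subgroupOfEquivOfLe hS).toEquiv, hc, hcardM] at h
    rw [Nat.eq_of_mul_eq_mul_left Nat.card_pos h] at hdvd
    exact hp.out.ne_one (Nat.eq_one_of_dvd_coprimes hker hdvd dvd_rfl)
  have hcR' : Nat.card R' = Nat.card R :=
    Nat.card_congr (R.equivMapOfInjective _ (MulAut.conj x).injective).symm.toEquiv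
  let P : Sylow p M := (hR.of_equiv (Subgroup.subgroupOfEquivOfLe hRM).symm).toSylow
    (hidx R hRM rfl)
  let Q : Sylow p M :=
    ((hR.map _).of_equiv (Subgroup.subgroupOfEquivOfLe hR'M).symm).toSylow (hidx R' hR'M hcR')
  obtain ⟨m, hm⟩ := MulAction.exists_smul_eq M Q P
  have hmem : ∀ r ∈ R, (m : X) * x * r * ((m : X) * x)⁻¹ ∈ R := by
    intro r hr
    have hrM : x * r * x⁻¹ ∈ R' := ⟨r, hr, by simp⟩
    have h1 : (m * ⟨_, hR'M hrM⟩ * m⁻¹ : M) ∈ (P : Subgroup M) := by
      rw [← hm]
      exact ⟨⟨_, hR'M hrM⟩, mem_subgroupOf.mpr hrM, rfl⟩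
    simpa [P, mem_subgroupOf, mul_assoc] using h1
  obtain ⟨r₀, hr₀, hr₀m⟩ := m.2
  refine ⟨r₀⁻¹ * ((m : X) * x), mul_mem (Subgroup.le_normalizer (inv_mem hr₀)) ?_, ?_⟩
  · refine map_conj_eq_iff_mem_normalizer.mp (Subgroup.eq_of_le_of_card_ge ?_ ?_)
    · rintro _ ⟨r, hr, rfl⟩
      exact hmem r hr
    · exact (Nat.card_congr (R.equivMapOfInjective _
        (MulAut.conj ((m : X) * x)).injective).toEquiv).le
  · rw [map_mul, map_inv, map_mul, hr₀m]
    group

omit [Finite X] hp in
/-- A normal `p'`-subgroup of a subgroup `H` lies in the image of `O_{p'}(H)`. -/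
theorem le_map_pPrimeCore {H D : Subgroup X} (hD : D ≤ H)
    (hn : H ≤ Subgroup.normalizer (D : Set X)) (hc : (Nat.card D).Coprime p) :
    D ≤ (pPrimeCore p H).map H.subtype := by
  rw [← map_subgroupOf_eq_of_le hD]
  refine Subgroup.map_mono (Thompson.le_pPrimeCore
    ((normal_subgroupOf_iff_le_normalizer hD).mpr hn) ?_)
  rwa [Nat.card_congr (Subgroup.subgroupOfEquivOfLe hD).toEquiv]

omit hp in
/-- The `p`-layer is normal. -/
theorem pLayer_normal [Fact p.Prime] : (pLayer p X).Normal := by
  refine ⟨fun x hx g => ?_⟩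
  have hle : pLayer p X ≤ (pLayer p X).comap (MulAut.conj g).toMonoidHom := by
    refine sSup_le fun K hK => ?_
    rw [isPComponent_eq hK, pComponentOf, pElementsClosure, Subgroup.closure_le]
    rintro a ⟨ha, k, hk⟩
    refine pComponent_le_pLayer (isPComponent_pComponentOf (component_map_conj
      (QuotientGroup.mk' (pPrimeCore p X) g) hK.2.1)) ?_
    refine Subgroup.subset_closure ⟨⟨_, ha, ?_⟩, k, ?_⟩
    · simp
    · simp [conj_pow, hk]
  exact hle hx

/-- The image of `O_{p'}(N(R))` in `X / O_{p'}(X)`. -/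
theorem map_pPrimeCore_normalizer_le {R : Subgroup X} (hR : IsPGroup p R) :
    ((pPrimeCore p ↥(Subgroup.normalizer (R : Set X))).map
      (Subgroup.normalizer (R : Set X)).subtype).map (QuotientGroup.mk' (pPrimeCore p X)) ≤
      localLayerCover p (R.map (QuotientGroup.mk' (pPrimeCore p X))) := by
  set π := QuotientGroup.mk' (pPrimeCore p X) with hπ
  set Y := Subgroup.normalizer (R : Set X) with hY
  have hN : Y.map π = Subgroup.normalizer (R.map π : Set (X ⧸ pPrimeCore p X)) :=
    map_normalizer_of_coprime_ker π (QuotientGroup.mk'_surjective _)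
      (by rw [hπ, QuotientGroup.ker_mk']; exact Thompson.card_pPrimeCore_coprime) hR
  refine le_trans ?_ map_pPrimeCore_le_localLayerCover
  refine le_map_pPrimeCore ?_ ?_ ?_
  · rw [← hN]
    exact Subgroup.map_mono (Subgroup.map_subtype_le _)
  · rw [← hN]
    exact (Subgroup.map_mono (Subgroup.le_normalizer.trans
      (normalizer_le_normalizer_map_characteristic Y (pPrimeCore p Y)))).trans (le_normalizer_map π)
  · exact Thompson.card_pPrimeCore_coprime.coprime_dvd_left
      ((Subgroup.card_map_dvd _ _).trans (Subgroup.card_map_dvd _ _))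

/-- The image of `L_{p'}(N(R))` in `X / O_{p'}(X)`. -/
theorem map_pLayer_normalizer_le {R : Subgroup X} (hR : IsPGroup p R) :
    ((pLayer p ↥(Subgroup.normalizer (R : Set X))).map
      (Subgroup.normalizer (R : Set X)).subtype).map (QuotientGroup.mk' (pPrimeCore p X)) ≤
      localLayerCover p (R.map (QuotientGroup.mk' (pPrimeCore p X))) := by
  set π := QuotientGroup.mk' (pPrimeCore p X) with hπ
  set Y := Subgroup.normalizer (R : Set X) with hY
  set Nb := Subgroup.normalizer (R.map π : Set (X ⧸ pPrimeCore p X)) with hNb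
  have hN : Y.map π = Nb :=
    map_normalizer_of_coprime_ker π (QuotientGroup.mk'_surjective _)
      (by rw [hπ, QuotientGroup.ker_mk']; exact Thompson.card_pPrimeCore_coprime) hR
  let f : ↥Y →* ↥Nb := (π.comp Y.subtype).codRestrict Nb fun y => hN ▸ ⟨y, y.2, rfl⟩
  have hf : Function.Surjective f := by
    rintro ⟨b, hb⟩
    obtain ⟨y, hy, rfl⟩ := hN.symm ▸ hb
    exact ⟨⟨y, hy⟩, rfl⟩
  let ψ : ↥Y →* ↥Nb ⧸ pPrimeCore p ↥Nb := (QuotientGroup.mk' (pPrimeCore p ↥Nb)).comp f
  have hker : pPrimeCore p ↥Y ≤ ψ.ker := by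
    intro a ha
    have : f a ∈ pPrimeCore p ↥Nb :=
      Thompson.le_pPrimeCore ((pPrimeCore_normal p ↥Y).map f hf)
        (Thompson.card_pPrimeCore_coprime.coprime_dvd_left (Subgroup.card_map_dvd _ _))
        ⟨a, ha, rfl⟩
    exact MonoidHom.mem_ker.mpr ((QuotientGroup.eq_one_iff _).mpr this)
  let l := QuotientGroup.lift (pPrimeCore p ↥Y) ψ hker
  have hl : Function.Surjective l := by
    intro b
    obtain ⟨c, rfl⟩ := QuotientGroup.mk'_surjective _ b
    obtain ⟨y, rfl⟩ := hf c
    exact ⟨QuotientGroup.mk y, rfl⟩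
  have hle : (pLayer p ↥Y).map f ≤ layerCover p ↥Nb := by
    rw [layerCover, ← map_le_iff_le_comap, Subgroup.map_map]
    have h1 := map_layer_le l hl
    rwa [← map_pLayer (G := ↥Y), Subgroup.map_map] at h1
  rintro _ ⟨_, ⟨j, hj, rfl⟩, rfl⟩
  exact ⟨f j, hle ⟨j, hj, rfl⟩, rfl⟩

/-- `O_{p'}(N(R))` normalizes every `p`-component and centralizes `O_p(X / O_{p'}(X))`. -/
theorem map_pPrimeCore_normalizer_le_hatPLayer {R : Subgroup X} (hR : IsPGroup p R) :
    (pPrimeCore p ↥(Subgroup.normalizer (R : Set X))).map (Subgroup.normalizer (R : Set X)).subtype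
      ≤ hatPLayer p X := by
  set π := QuotientGroup.mk' (pPrimeCore p X) with hπ
  have hRb : IsPGroup p ↥(R.map π) := hR.map π
  have h := map_pPrimeCore_normalizer_le hR
  refine le_inf (le_iInf fun K => ?_) ?_
  · have hK : IsPComponent p K.1 := K.2
    rw [isPComponent_eq hK]
    refine le_trans ?_ (normalizer_le_normalizer_pElementsClosure p _)
    refine le_trans ?_ (le_normalizer_comap _)
    rw [← map_le_iff_le_comap]
    exact h.trans (localLayerCover_le_normalizer_component
      Thompson.pPrimeCore_quotient_pPrimeCore hRb hK.2.1)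
  · rw [← map_le_iff_le_comap]
    exact h.trans (localLayerCover_le_centralizer_pCore hRb)

/-- A perfect group has no non-trivial homomorphism into a solvable group. -/
theorem map_eq_bot_of_perfect {Y S : Type*} [Group Y] [Group S] (hS : Group.IsSolvable S)
    (φ : Y →* S) {J : Subgroup Y} (hJ : ⁅J, J⁆ = J) : J.map φ = ⊥ := by
  by_contra hne
  haveI : Nontrivial ↥(J.map φ) := (Subgroup.nontrivial_iff_ne_bot _).mpr hne
  haveI : Group.IsPerfect ↥(J.map φ) := Subgroup.isPerfect_iff.mpr (by
    rw [← Subgroup.map_commutator, hJ])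
  haveI := hS
  exact Group.IsPerfect.not_isSolvable ↥(J.map φ)
    (Group.isSolvable_of_isSolvable_injective (f := (J.map φ).subtype) Subtype.val_injective)

omit hp in
/-- A perfect subgroup normalizing a component `K` with `Out(K/Z(K))` solvable induces inner
automorphisms on it. -/
theorem le_component_sup_centralizer {K J : Subgroup X} (hK : IsComponent K)
    (hS : Group.IsSolvable (Out (↥K ⧸ center ↥K))) (hJ : ⁅J, J⁆ = J)
    (hJK : J ≤ Subgroup.normalizer (K : Set X)) :
    J ≤ K ⊔ Subgroup.centralizer (K : Set X) := by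
  let N := Subgroup.normalizer (K : Set X)
  let θ : MulAut ↥K →* MulAut (↥K ⧸ center ↥K) :=
    { toFun := fun e => QuotientGroup.congr (center ↥K) (center ↥K) e
        (characteristic_iff_map_eq.mp inferInstance e)
      map_one' := MulEquiv.ext fun a => by
        obtain ⟨a, rfl⟩ := QuotientGroup.mk'_surjective _ a
        rfl
      map_mul' := fun e e' => MulEquiv.ext fun a => by
        obtain ⟨a, rfl⟩ := QuotientGroup.mk'_surjective _ a
        rfl }
  let φ : ↥N →* Out (↥K ⧸ center ↥K) :=
    (QuotientGroup.mk' _).comp (θ.comp K.normalizerMonoidHom)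
  have hJ' : ⁅J.subgroupOf N, J.subgroupOf N⁆ = J.subgroupOf N := by
    apply map_injective N.subtype_injective
    rw [Subgroup.map_commutator, map_subgroupOf_eq_of_le hJK, hJ]
  have hbot := map_eq_bot_of_perfect hS φ hJ'
  intro j hj
  have h1 : φ ⟨j, hJK hj⟩ = 1 :=
    Subgroup.mem_bot.mp (hbot ▸ ⟨_, mem_subgroupOf.mpr hj, rfl⟩)
  obtain ⟨kb, hk⟩ := (QuotientGroup.eq_one_iff _).mp h1
  obtain ⟨k, rfl⟩ := QuotientGroup.mk'_surjective _ kb
  have hkN : (k : X) ∈ N := Subgroup.le_normalizer k.2
  have hc : (k : X)⁻¹ * j ∈ Subgroup.centralizer (K : Set X) := by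
    refine mem_centralizer_of_commutator_mem_centralizer (component_commutator_eq_self hK)
      (mul_mem (inv_mem hkN) (hJK hj)) fun l hl => ?_
    have h2 := MulEquiv.congr_fun hk (QuotientGroup.mk ⟨l, hl⟩)
    have h3 : (k * ⟨l, hl⟩ * k⁻¹ : ↥K)⁻¹ *
        K.normalizerMonoidHom ⟨j, hJK hj⟩ ⟨l, hl⟩ ∈ center ↥K := by
      rw [← QuotientGroup.eq_one_iff]
      simp only [QuotientGroup.mk_mul, QuotientGroup.mk_inv]
      rw [inv_mul_eq_one]
      exact h2
    have h4 := (inferInstance : (center ↥K).Normal).conj_mem _ h3 (⟨l, hl⟩ * k⁻¹ : ↥K)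
    refine mem_centralizer_iff.mpr fun a ha => ?_
    have h5 := congrArg Subtype.val (mem_center_iff.mp h4 ⟨a, ha⟩)
    simpa [mul_assoc] using h5
  have := mul_mem (mem_sup_left (T := Subgroup.centralizer (K : Set X)) k.2) (mem_sup_right hc)
  simpa using this

/-- If `O_{p'}(G) = 1`, a perfect subgroup normalizing every component, centralizing `O_p(G)` and
inducing inner automorphisms on the components lies in the layer. -/
theorem le_layer_of_perfect (hO : pPrimeCore p X = ⊥) {J : Subgroup X} (hJ : ⁅J, J⁆ = J)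
    (hU : J ≤ Subgroup.centralizer (pCore p X : Set X))
    (hK : ∀ K : Subgroup X, IsComponent K → J ≤ K ⊔ Subgroup.centralizer (K : Set X)) :
    J ≤ layer X := by
  classical
  haveI : Fintype X := Fintype.ofFinite X
  set A := Subgroup.centralizer (generalizedFittingSubgroup X : Set X) ⊓
    generalizedFittingSubgroup X with hA
  have hlK : ∀ K : Subgroup X, IsComponent K → layer X ≤ K ⊔ Subgroup.centralizer (K : Set X) := by
    intro K hK
    refine layer_le_iff.mpr fun L hL => ?_
    rcases component_eq_or_commutator_eq_bot hL hK with h | h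
    · exact h ▸ le_sup_left
    · exact (commutator_eq_bot_iff_le_centralizer.mp h).trans le_sup_right
  have key : ∀ T : Finset (Subgroup X), (∀ K ∈ T, IsComponent K) → ∀ j ∈ J,
      ∃ e ∈ layer X, ∀ K ∈ T, e⁻¹ * j ∈ Subgroup.centralizer (K : Set X) := by
    intro T
    induction T using Finset.induction with
    | empty => exact fun _ j _ => ⟨1, one_mem _, by simp⟩
    | insert K T hKT ih =>
      intro hT j hj
      obtain ⟨e, he, hce⟩ := ih (fun L hL => hT L (Finset.mem_insert_of_mem hL)) j hj
      have hKc := hT K (Finset.mem_insert_self K T)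
      have h1 : e⁻¹ * j ∈ K ⊔ Subgroup.centralizer (K : Set X) :=
        mul_mem (inv_mem (hlK K hKc he)) (hK K hKc hj)
      rw [← SetLike.mem_coe, coe_mul_of_right_le_normalizer_left K _
        (Subgroup.centralizer_le_normalizer _)] at h1
      obtain ⟨k, hk, c, hc, hkc⟩ := h1
      refine ⟨e * k, mul_mem he (component_le_layer hKc hk), fun L hL => ?_⟩
      have hec : (e * k)⁻¹ * j = k⁻¹ * (e⁻¹ * j) := by group
      rw [hec]
      rcases Finset.mem_insert.mp hL with rfl | hL'
      · have hkc' : k * c = e⁻¹ * j := hkc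
        rw [← hkc', inv_mul_cancel_left]
        exact hc
      · refine mul_mem (inv_mem ?_) (hce L hL')
        have hne : K ≠ L := fun h => hKT (h ▸ hL')
        exact component_le_centralizer hKc (hT L hL) hne hk
  have hJA : J ≤ layer X ⊔ A := by
    intro j hj
    obtain ⟨e, he, hce⟩ := key (Finset.univ.filter fun K => IsComponent K)
      (fun K hK => (Finset.mem_filter.mp hK).2) j hj
    have hcF : e⁻¹ * j ∈ Subgroup.centralizer (generalizedFittingSubgroup X : Set X) := by
      rw [← Subgroup.zpowers_le, Subgroup.le_centralizer_iff, generalizedFittingSubgroup]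
      refine sup_le (layer_le_iff.mpr fun K hK => ?_) ?_
      · rw [Subgroup.le_centralizer_iff, Subgroup.zpowers_le]
        exact hce K (Finset.mem_filter.mpr ⟨Finset.mem_univ _, hK⟩)
      · rw [Subgroup.le_centralizer_iff, Subgroup.zpowers_le,
          fitting_eq_pCore_of_pPrimeCore_eq_bot hO]
        refine mul_mem (inv_mem ?_) (hU hj)
        exact (layer_le_centralizer_fitting.trans
          (Subgroup.centralizer_le (Fitting.pCore_le_fitting p))) he
    have := mul_mem (mem_sup_left (T := A) he)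
      (mem_sup_right (S := layer X) (T := A) ⟨hcF, centralizer_generalizedFitting_le hcF⟩)
    simpa using this
  have hAA : ⁅A, A⁆ = ⊥ := commutator_eq_bot_iff_le_centralizer.mpr fun a ha =>
    Subgroup.centralizer_le (fun b hb => (Subgroup.mem_inf.mp hb).2) (Subgroup.mem_inf.mp ha).1
  haveI : (layer X).Normal := inferInstance
  set q := QuotientGroup.mk' (layer X) with hq
  have h1 : J.map q ≤ A.map q := by
    refine (Subgroup.map_mono hJA).trans ?_
    rw [Subgroup.map_sup, hq, QuotientGroup.map_mk'_self, bot_sup_eq]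
  have h2 : J.map q = ⊥ := by
    rw [eq_bot_iff, ← hJ, Subgroup.map_commutator]
    refine (Subgroup.commutator_mono h1 h1).trans ?_
    rw [← Subgroup.map_commutator, hAA, Subgroup.map_bot]
  rwa [Subgroup.map_eq_bot_iff, hq, QuotientGroup.ker_mk'] at h2

omit [Finite X] hp in
/-- The `p`-layer is perfect. -/
theorem pLayer_commutator_eq_self : ⁅pLayer p X, pLayer p X⁆ = pLayer p X :=
  le_antisymm (Subgroup.commutator_le_self _) (sSup_le fun K hK => by
    rw [← pComponent_commutator_eq_self hK]
    exact Subgroup.commutator_mono (pComponent_le_pLayer hK) (pComponent_le_pLayer hK))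

/-- The preimage of the layer of `X / O_{p'}(X)` has the same `p`-elements as the `p`-layer. -/
theorem mem_pLayer_of_map_mem_layer {g : X} {k : ℕ} (hg : g ^ p ^ k = 1)
    (hmem : QuotientGroup.mk' (pPrimeCore p X) g ∈ layer (X ⧸ pPrimeCore p X)) :
    g ∈ pLayer p X := by
  haveI := pLayer_normal (p := p) (X := X)
  rw [← map_pLayer] at hmem
  obtain ⟨l, hl, hlg⟩ := hmem
  set q := QuotientGroup.mk' (pLayer p X) with hq
  have ho : l⁻¹ * g ∈ pPrimeCore p X := by
    rw [← QuotientGroup.ker_mk' (pPrimeCore p X), MonoidHom.mem_ker, map_mul, map_inv, hlg,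
      inv_mul_cancel]
  have hqg : q g = q (l⁻¹ * g) := by
    have hl1 : q l = 1 := (QuotientGroup.eq_one_iff l).mpr hl
    rw [map_mul, map_inv, hl1, inv_one, one_mul]
  have h1 : orderOf (q g) ∣ p ^ k := orderOf_dvd_of_pow_eq_one (by rw [← map_pow, hg, map_one])
  have h2 : (orderOf (q g)).Coprime p := by
    rw [hqg]
    exact Thompson.card_pPrimeCore_coprime.coprime_dvd_left
      ((orderOf_map_dvd q _).trans (Subgroup.orderOf_dvd_natCard _ ho))
  have h3 := Nat.eq_one_of_dvd_coprimes (h2.pow_right k) dvd_rfl h1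
  rwa [orderOf_eq_one_iff, hq, QuotientGroup.mk'_apply, QuotientGroup.eq_one_iff] at h3

/-- Balance for the `p`-layer under the Schreier property. -/
theorem map_pLayer_normalizer_le_pLayer
    (hS : ∀ K : Subgroup (X ⧸ pPrimeCore p X), IsComponent K →
      Group.IsSolvable (Out (↥K ⧸ center ↥K)))
    {R : Subgroup X} (hR : IsPGroup p R) :
    (pLayer p ↥(Subgroup.normalizer (R : Set X))).map (Subgroup.normalizer (R : Set X)).subtype
      ≤ pLayer p X := by
  set π := QuotientGroup.mk' (pPrimeCore p X) with hπ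
  set Y := Subgroup.normalizer (R : Set X) with hY
  set J := (pLayer p ↥Y).map Y.subtype with hJ
  have hRb : IsPGroup p ↥(R.map π) := hR.map π
  have hO : pPrimeCore p (X ⧸ pPrimeCore p X) = ⊥ := Thompson.pPrimeCore_quotient_pPrimeCore
  have h := map_pLayer_normalizer_le hR
  have hperf : ⁅J.map π, J.map π⁆ = J.map π := by
    rw [← Subgroup.map_commutator, hJ, ← Subgroup.map_commutator, pLayer_commutator_eq_self]
  have hE : J.map π ≤ layer (X ⧸ pPrimeCore p X) := le_layer_of_perfect hO hperf
    (h.trans (localLayerCover_le_centralizer_pCore hRb))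
    fun K hK => le_component_sup_centralizer hK (hS K hK) hperf
      (h.trans (localLayerCover_le_normalizer_component hO hRb hK))
  rw [hJ, map_le_iff_le_comap]
  refine sSup_le fun K hK => ?_
  refine (isPComponent_eq hK).le.trans ((Subgroup.closure_le _).mpr ?_)
  rintro g ⟨hg, k, hk⟩
  refine mem_pLayer_of_map_mem_layer (k := k) ?_ (hE ⟨g, ⟨g, ?_, rfl⟩, rfl⟩)
  · simpa using congrArg Y.subtype hk
  · exact pComponent_le_pLayer hK ((isPComponent_eq hK).ge (Subgroup.subset_closure ⟨hg, k, hk⟩))

end Cfsg.Agent.ClassTech
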