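import Cfsg.Agent.PLocalB.QdStable
import Cfsg.Agent.Lib.LinearGroup.Generation
import Cfsg.Agent.Lib.Fitting.Minimal
import Cfsg.Agent.Lib.Coprime.Action
import Cfsg.Agent.Lib.Thompson.Cores
import Cfsg.Agent.BGSigma.PiCore
import Cfsg.Agent.BGUniq.FittingOf
import Cfsg.Agent.Lib.Solvable.HallPi

/-!
# Quadratic elements in solvable groups, and centralizers of self-centralizing normal subgroups of
the Fitting subgroup of a Hall subgroup
-/

set_option autoImplicit false
set_option linter.style.haveILetI false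
set_option linter.unusedSectionVars false

namespace Cfsg.Agent.ClassTech.SolvableSCN

open Subgroup
open scoped commutatorElement MatrixGroups

variable {G : Type*} [Group G] [Finite G]

theorem not_isSolvable_SL_two {r : ℕ} [hr : Fact r.Prime] (h2 : r ≠ 2) (h3 : r ≠ 3) :
    ¬ Group.IsSolvable SL(2, ZMod r) := by
  have hne : ∀ n : ℕ, 0 < n → n < r → ((n : ℕ) : ZMod r) ≠ 0 := fun n h0 h1 h => by
    rw [ZMod.natCast_eq_zero_iff] at h
    exact absurd (Nat.le_of_dvd h0 h) (not_le.mpr h1)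
  have hr5 : 3 < r := by
    have := hr.out.two_le
    omega
  haveI : Group.IsPerfect SL(2, ZMod r) := ⟨LinearGroup.commutator_SL_eq_top' fun _ =>
    ⟨2, by exact_mod_cast hne 2 (by norm_num) (by omega), fun h => by
      have h' : ((3 : ℕ) : ZMod r) = 0 := by
        have : (2 : ZMod r) ^ 2 - 1 = 0 := by rw [h, sub_self]
        rw [← this]
        norm_num
      exact hne 3 (by norm_num) hr5 h'⟩⟩
  haveI : Nontrivial SL(2, ZMod r) := by
    refine ⟨⟨1, ⟨!![1, 1; 0, 1], by simp [Matrix.det_fin_two]⟩, fun h => ?_⟩⟩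
    have := congrArg (fun A : SL(2, ZMod r) => (A : Matrix (Fin 2) (Fin 2) (ZMod r)) 0 1) h
    simp at this
  exact Group.IsPerfect.not_isSolvable _

/-- In a solvable group, an `r`-element, `r ≥ 5`, acting quadratically on the Fitting subgroup lies
in it. -/
theorem mem_fitting_of_quadratic [Group.IsSolvable G] {r : ℕ} [hr : Fact r.Prime] (h2 : r ≠ 2)
    (h3 : r ≠ 3) {c : G} {k : ℕ} (hc : c ^ r ^ k = 1)
    (hq : ⁅⁅Cfsg.fittingSubgroup G, Subgroup.zpowers c⁆, Subgroup.zpowers c⁆ = ⊥) :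
    c ∈ Cfsg.fittingSubgroup G := by
  set C := Subgroup.zpowers c with hC
  set P := Cfsg.pCore r G with hP
  have hPF : P ≤ Cfsg.fittingSubgroup G := Fitting.pCore_le_fitting r
  have hPp : IsPGroup r ↥P := Thompson.isPGroup_pCore
  -- `c` centralizes the other primary parts
  have hcent : ∀ q : ℕ, q.Prime → q ≠ r → c ∈ Subgroup.centralizer (Cfsg.pCore q G : Set G) := by
    intro q hq' hqr
    haveI : Fact q.Prime := ⟨hq'⟩
    have hn : C ≤ Subgroup.normalizer (Cfsg.pCore q G : Set G) := by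
      rw [Subgroup.normalizer_eq_top]
      exact le_top
    have hcop : (Nat.card C).Coprime (Nat.card (Cfsg.pCore q G)) := by
      obtain ⟨n, hn⟩ := IsPGroup.iff_card.mp (Thompson.isPGroup_pCore (p := q) (G := G))
      rw [hn, hC, Nat.card_zpowers]
      exact Nat.Coprime.coprime_dvd_left (orderOf_dvd_of_pow_eq_one hc)
        (((Nat.coprime_primes hr.out hq').mpr (Ne.symm hqr)).pow k n)
    have h1 : ⁅⁅Cfsg.pCore q G, C⁆, C⁆ = ⊥ :=
      le_bot_iff.mp (hq ▸ commutator_mono (commutator_mono (Fitting.pCore_le_fitting q) le_rfl) le_rfl)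
    rw [Coprime.commutator_commutator_eq C _ hn hcop (Or.inl inferInstance),
      commutator_comm, commutator_eq_bot_iff_le_centralizer] at h1
    exact h1 (Subgroup.mem_zpowers c)
  -- `c` lies in `O_r` modulo the centralizer of `P`
  set R := (Cfsg.pCore r (G ⧸ Subgroup.centralizer (P : Set G))).comap
    (QuotientGroup.mk' (Subgroup.centralizer (P : Set G))) with hR
  have hcR : c ∈ R := by
    by_contra hnot
    obtain ⟨K, L, hL, ⟨e⟩⟩ := PLocalB.exists_sl_section_of_not_stable h2 P hPp c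
      (le_bot_iff.mp (hq ▸ commutator_mono (commutator_mono hPF le_rfl) le_rfl)) hnot
    exact not_isSolvable_SL_two h2 h3
      (Group.isSolvable_of_surjective (f := e.toMonoidHom.comp (QuotientGroup.mk' _))
        (e.surjective.comp (QuotientGroup.mk'_surjective _)))
  set D : Subgroup G := ⨅ q : {q : ℕ // q.Prime ∧ q ≠ r},
    Subgroup.centralizer (Cfsg.pCore (q : ℕ) G : Set G) with hD
  haveI : D.Normal := Subgroup.normal_iInf_normal fun q => inferInstance
  haveI : R.Normal := inferInstance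
  set Y := R ⊓ D with hY
  haveI hYn : Y.Normal := Subgroup.normal_inf_normal R D
  have hcY : c ∈ Y := ⟨hcR, Subgroup.mem_iInf.mpr fun q => hcent q q.2.1 q.2.2⟩
  have hPY : P ≤ Y := by
    refine le_inf ?_ (le_iInf fun q => ?_)
    · rw [hR, ← map_le_iff_le_comap]
      exact Thompson.le_pCore ((inferInstance : P.Normal).map _ (QuotientGroup.mk'_surjective _))
        (hPp.map _)
    · intro x hx
      haveI : Fact (q : ℕ).Prime := ⟨q.2.1⟩
      exact mem_centralizer_iff.mpr fun y hy => (Fitting.pCore_commute q.2.2 hy hx).eq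
  set μ := QuotientGroup.mk' P with hμ
  set Yb := Y.map μ with hYb
  haveI hYbn : Yb.Normal := hYn.map μ (QuotientGroup.mk'_surjective _)
  set Cb := (Subgroup.centralizer (P : Set G)).map μ with hCb
  haveI : Cb.Normal := (inferInstance : (Subgroup.centralizer (P : Set G)).Normal).map μ
    (QuotientGroup.mk'_surjective _)
  have hker : ∀ y ∈ Yb, y ∈ Cb → ∀ b ∈ Yb, b * y = y * b := by
    intro y hy hyC b hb
    obtain ⟨z, hz, rfl⟩ := hyC
    obtain ⟨y', hy', hzy⟩ := hy
    obtain ⟨b', hb', rfl⟩ := hb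
    have hzY : z ∈ Y := by
      have h1 : y'⁻¹ * z ∈ P := QuotientGroup.eq.mp hzy
      simpa using mul_mem hy' (hPY h1)
    have hzF : z ∈ Cfsg.fittingSubgroup G := by
      refine Fitting.centralizer_fitting_le ?_
      rw [← Subgroup.zpowers_le, Subgroup.le_centralizer_iff, Fitting.fitting_eq_iSup_pCore]
      refine iSup_le fun q => ?_
      rw [Subgroup.le_centralizer_iff, Subgroup.zpowers_le]
      by_cases hqr : (q : ℕ) = r
      · rw [hqr]
        exact hz
      · exact Subgroup.mem_iInf.mp hzY.2 ⟨q, q.2, hqr⟩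
    have hle : Cfsg.fittingSubgroup G ≤ (Subgroup.centralizer ({μ b'} : Set _)).comap μ := by
      rw [Fitting.fitting_eq_iSup_pCore]
      refine iSup_le fun q a ha => ?_
      rw [mem_comap, mem_centralizer_singleton_iff]
      by_cases hqr : (q : ℕ) = r
      · have : μ a = 1 := (QuotientGroup.eq_one_iff a).mpr (by rw [hP, ← hqr]; exact ha)
        rw [this, one_mul, mul_one]
      · exact (Commute.map (mem_centralizer_iff.mp
          (Subgroup.mem_iInf.mp hb'.2 ⟨q, q.2, hqr⟩) a ha : Commute a b') μ).eq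
    exact (mem_centralizer_singleton_iff.mp (hle hzF)).symm
  have hnil : Group.IsNilpotent ↥Yb := by
    set g := ((QuotientGroup.mk' Cb).comp Yb.subtype).rangeRestrict with hg
    have hgk : g.ker ≤ center ↥Yb := by
      intro y hy
      refine mem_center_iff.mpr fun b => Subtype.ext ?_
      refine hker y y.2 ?_ b b.2
      exact (QuotientGroup.eq_one_iff _).mp (congrArg Subtype.val (MonoidHom.mem_ker.mp hy))
    have hrp : IsPGroup r ↥((QuotientGroup.mk' Cb).comp Yb.subtype).range := by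
      rintro ⟨_, ⟨_, y, hy, rfl⟩, rfl⟩
      obtain ⟨j, hj⟩ := (Thompson.isPGroup_pCore (p := r)
        (G := G ⧸ Subgroup.centralizer (P : Set G))) ⟨QuotientGroup.mk' _ y, hy.1⟩
      refine ⟨j, Subtype.ext ?_⟩
      have h1 : y ^ r ^ j ∈ Subgroup.centralizer (P : Set G) :=
        (QuotientGroup.eq_one_iff _).mp (by simpa using congrArg Subtype.val hj)
      have h2 : QuotientGroup.mk' Cb (μ (y ^ r ^ j)) = 1 :=
        (QuotientGroup.eq_one_iff _).mpr ⟨_, h1, rfl⟩
      simpa using h2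
    haveI := hrp.isNilpotent
    exact Subgroup.isNilpotent_of_ker_le_center g hgk
  have hcb : μ c ∈ Cfsg.pCore r (G ⧸ P) := by
    haveI := hnil
    haveI : Group.IsNilpotent ↥(Cfsg.fittingSubgroup (G ⧸ P)) := Fitting.fitting_isNilpotent
    have hYF : Yb ≤ Cfsg.fittingSubgroup (G ⧸ P) := Fitting.le_fitting hYbn hnil
    set F := Cfsg.fittingSubgroup (G ⧸ P) with hF
    have hz : IsPGroup r ↥(Subgroup.zpowers (⟨μ c, hYF ⟨c, hcY, rfl⟩⟩ : ↥F)) := by
      have h1 : orderOf (⟨μ c, hYF ⟨c, hcY, rfl⟩⟩ : ↥F) ∣ r ^ k := by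
        rw [← Subgroup.orderOf_coe]
        exact (orderOf_map_dvd μ c).trans (orderOf_dvd_of_pow_eq_one hc)
      obtain ⟨i, -, hi⟩ := (Nat.dvd_prime_pow hr.out).mp h1
      exact IsPGroup.of_card (n := i) (by rw [Nat.card_zpowers, hi])
    obtain ⟨S, hS⟩ := hz.exists_le_sylow
    haveI : (S : Subgroup ↥F).Normal := inferInstance
    haveI := Sylow.characteristic_of_normal S inferInstance
    exact Thompson.le_pCore inferInstance (S.isPGroup'.map F.subtype)
      ⟨_, hS (Subgroup.mem_zpowers _), rfl⟩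
  replace hcb : μ c ∈ (⊥ : Subgroup (G ⧸ P)) :=
    (Thompson.pCore_quotient_pCore (p := r) (G := G)).le hcb
  rw [Subgroup.mem_bot, hμ, QuotientGroup.mk'_apply, QuotientGroup.eq_one_iff] at hcb
  exact hPF hcb

set_option maxHeartbeats 800000 in
/-- The centralizer of a self-centralizing normal subgroup of the Fitting subgroup of a Hall
`π`-subgroup of a solvable group. -/
theorem centralizer_scn [Group.IsSolvable G] {π : Set ℕ} (h2 : 2 ∉ π) (h3 : 3 ∉ π) {H : Subgroup G}
    (hH : Cfsg.IsPiHall π H) {A : Subgroup G}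
    (hA : Cfsg.IsSCN ((Cfsg.fittingSubgroup H).map H.subtype) A) :
    ∀ (r : ℕ), r.Prime → r ∈ π → ∀ (x : G) (k : ℕ),
      x ∈ Subgroup.centralizer (A : Set G) → x ^ r ^ k = 1 → x ∈ A := by
  obtain ⟨hAF, hFA, hcen⟩ := hA
  set FH := (Cfsg.fittingSubgroup H).map H.subtype with hFH
  have hFHH : FH ≤ H := map_subtype_le _
  set N := Cfsg.piCore πᶜ G with hN
  set f := QuotientGroup.mk' N with hf
  have hfs : Function.Surjective f := QuotientGroup.mk'_surjective _
  have hNpi : ∀ r : ℕ, r.Prime → r ∣ Nat.card N → r ∈ πᶜ := BGSigma.isPiSub_piCore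
  have hinj : ∀ h ∈ H, f h = 1 → h = 1 := by
    intro h hh h1
    have hbot : H ⊓ N = ⊥ :=
      BGSigma.isPiSub_inf_eq_bot (π := π) (ρ := πᶜ) hH.1 hNpi fun p _ hp hn => hn hp
    exact Subgroup.mem_bot.mp (hbot ▸ Subgroup.mem_inf.mpr ⟨hh, (QuotientGroup.eq_one_iff h).mp h1⟩)
  set F0 := Cfsg.fittingSubgroup (G ⧸ N) with hF0
  have hF0pi : ∀ r : ℕ, r.Prime → r ∣ Nat.card F0 → r ∈ π := by
    intro r hr hd
    by_contra hrπ
    haveI : Fact r.Prime := ⟨hr⟩
    obtain ⟨x, hx⟩ := exists_prime_orderOf_dvd_card' r hd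
    have hxp : IsPGroup r ↥(Subgroup.zpowers x) :=
      IsPGroup.of_card (n := 1) (by rw [Nat.card_zpowers, hx, pow_one])
    haveI : Group.IsNilpotent ↥F0 := Fitting.fitting_isNilpotent
    obtain ⟨S, hS⟩ := hxp.exists_le_sylow
    haveI : (S : Subgroup ↥F0).Normal := inferInstance
    haveI := Sylow.characteristic_of_normal S inferInstance
    have h1 : (S : Subgroup ↥F0).map F0.subtype ≤ Cfsg.piCore πᶜ (G ⧸ N) := by
      refine BGSigma.le_piCore inferInstance fun q hq hqd => ?_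
      obtain ⟨n, hn⟩ := IsPGroup.iff_card.mp (S.isPGroup'.map F0.subtype)
      rw [hn] at hqd
      exact ((Nat.prime_dvd_prime_iff_eq hq hr).mp (hq.dvd_of_dvd_pow hqd)).symm ▸ hrπ
    replace h1 : (S : Subgroup ↥F0).map F0.subtype ≤ ⊥ :=
      h1.trans (BGUniq.piCore_quotient_piCore (H := G) πᶜ).le
    have h2 : x = 1 := Subtype.ext (Subgroup.mem_bot.mp (h1 ⟨x, hS (Subgroup.mem_zpowers x), rfl⟩))
    rw [h2, orderOf_one] at hx
    exact hr.one_lt.ne hx
  have hF0H : F0 ≤ H.map f := by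
    haveI : Group.IsSolvable (G ⧸ N) := Group.isSolvable_of_surjective (f := f) hfs
    have hHb : Cfsg.IsPiHall π (H.map f) :=
      ⟨fun p hp hd => hH.1 p hp (hd.trans (H.card_map_dvd f)),
        fun p hp hpπ hd => hH.2 p hp hpπ (hd.trans (H.index_map_dvd hfs))⟩
    obtain ⟨g, hg⟩ := Solvable.le_conj_isPiHall hHb F0 hF0pi
    intro x hx
    have h1 := hg ((inferInstance : F0.Normal).conj_mem x hx g)
    obtain ⟨y, hy, hxy⟩ := (Subgroup.mem_smul_pointwise_iff_exists _ _ _).mp h1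
    rw [MulAut.smul_def, MulAut.conj_apply] at hxy
    have : y = x := by simpa using hxy
    exact this ▸ hy
  set H0 := H ⊓ F0.comap f with hH0
  have hH0F : F0 ≤ FH.map f := by
    have h0n : (H0.subgroupOf H).Normal := by
      refine ⟨fun a ha g => ?_⟩
      simp only [mem_subgroupOf, hH0, Subgroup.mem_inf, mem_comap, Subgroup.coe_mul,
        Subgroup.coe_inv] at ha ⊢
      refine ⟨mul_mem (mul_mem g.2 ha.1) (inv_mem g.2), ?_⟩
      rw [map_mul, map_mul, map_inv]
      exact (inferInstance : F0.Normal).conj_mem _ ha.2 _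
    have h0nil : Group.IsNilpotent ↥(H0.subgroupOf H) := by
      haveI : Group.IsNilpotent ↥F0 := Fitting.fitting_isNilpotent
      let φ : ↥(H0.subgroupOf H) →* ↥F0 :=
        ((f.comp H.subtype).comp (H0.subgroupOf H).subtype).codRestrict F0
          fun a => (Subgroup.mem_inf.mp (mem_subgroupOf.mp a.2)).2
      refine Subgroup.isNilpotent_of_ker_le_center φ (fun a ha => ?_)
      have h1 : ((a : ↥H) : G) = 1 :=
        hinj _ (a : ↥H).2 (congrArg Subtype.val (MonoidHom.mem_ker.mp ha))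
      rw [show a = 1 from Subtype.ext (Subtype.ext h1)]
      exact one_mem _
    intro x hx
    obtain ⟨h, hh, rfl⟩ := hF0H hx
    exact ⟨h, ⟨⟨h, hh⟩, Fitting.le_fitting h0n h0nil
      (mem_subgroupOf.mpr (Subgroup.mem_inf.mpr ⟨hh, hx⟩)), rfl⟩, rfl⟩
  set Ab := A.map f with hAb
  -- prime elements of the centralizer of the image lie in the image
  intro r hr hrπ x k hx hxk
  haveI : Fact r.Prime := ⟨hr⟩
  haveI : Group.IsSolvable (G ⧸ N) := Group.isSolvable_of_surjective (f := f) hfs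
  set c := f x with hc
  have hcC : Subgroup.zpowers c ≤ Subgroup.centralizer (Ab : Set _) := by
    rw [Subgroup.zpowers_le, mem_centralizer_iff]
    rintro _ ⟨a, ha, rfl⟩
    rw [hc, ← map_mul, ← map_mul, mem_centralizer_iff.mp hx a ha]
  have hinA : ∀ u ∈ F0, u ∈ Subgroup.centralizer (Ab : Set _) → u ∈ Ab := by
    intro u hu huC
    obtain ⟨h, hh, rfl⟩ := hH0F hu
    refine ⟨h, hcen.le (Subgroup.mem_inf.mpr ⟨hh, mem_centralizer_iff.mpr fun a ha => ?_⟩), rfl⟩
    have h1 := mem_centralizer_iff.mp huC (f a) ⟨a, ha, rfl⟩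
    rw [← map_mul, ← map_mul] at h1
    rw [← mul_inv_eq_one]
    refine hinj _ (mul_mem (mul_mem ((hAF.trans hFHH) ha) (hFHH hh))
      (inv_mem (mul_mem (hFHH hh) ((hAF.trans hFHH) ha)))) ?_
    rw [map_mul, map_inv, h1, mul_inv_cancel]
  have hq : ⁅⁅F0, Subgroup.zpowers c⁆, Subgroup.zpowers c⁆ = ⊥ := by
    have hab : A ≤ Subgroup.centralizer (A : Set G) := hcen.ge.trans inf_le_right
    have h1 : ⁅Ab, F0⁆ ≤ Ab := by
      refine (commutator_mono le_rfl hH0F).trans ?_
      rw [hAb, ← Subgroup.map_commutator]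
      refine Subgroup.map_mono ?_
      refine Subgroup.commutator_le.mpr fun a ha b hb => ?_
      have hb' : b * a⁻¹ * b⁻¹ ∈ A :=
        (mem_normalizer_iff.mp (hFA hb) a⁻¹).mp (inv_mem ha)
      rw [commutatorElement_def, show a * b * a⁻¹ * b⁻¹ = a * (b * a⁻¹ * b⁻¹) by group]
      exact mul_mem ha hb'
    have h2 : ⁅⁅F0, Subgroup.zpowers c⁆, Ab⁆ = ⊥ := by
      refine Subgroup.commutator_commutator_eq_bot_of_rotate ?_ ?_
      · rw [Subgroup.commutator_comm (Subgroup.zpowers c) Ab,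
          commutator_eq_bot_iff_le_centralizer.mpr (Subgroup.le_centralizer_iff.mp hcC),
          Subgroup.commutator_bot_left]
      · exact le_bot_iff.mp ((commutator_mono h1 le_rfl).trans
          (commutator_eq_bot_iff_le_centralizer.mpr (Subgroup.le_centralizer_iff.mp hcC)).le)
    have h3 : ⁅F0, Subgroup.zpowers c⁆ ≤ Ab := by
      intro u hu
      refine hinA u ?_ (commutator_eq_bot_iff_le_centralizer.mp h2 hu)
      exact Subgroup.commutator_le_left F0 _ hu
    rw [eq_bot_iff]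
    refine (commutator_mono h3 le_rfl).trans ?_
    exact (commutator_eq_bot_iff_le_centralizer.mpr (Subgroup.le_centralizer_iff.mp hcC)).le
  have hcF : c ∈ F0 := mem_fitting_of_quadratic (fun h => h2 (h ▸ hrπ)) (fun h => h3 (h ▸ hrπ))
    (by rw [hc, ← map_pow, hxk, map_one]) hq
  obtain ⟨a, ha, hac⟩ := hinA c hcF (hcC (Subgroup.mem_zpowers c))
  -- pull back
  have hcom : Commute a⁻¹ x := (show Commute a x from mem_centralizer_iff.mp hx a ha).inv_left
  have hy : a⁻¹ * x ∈ N := by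
    rw [← QuotientGroup.eq_one_iff, ← QuotientGroup.mk'_apply, ← hf, map_mul, map_inv, hac, hc,
      inv_mul_cancel]
  have ha1 : a ^ r ^ k = 1 := by
    refine hinj _ (pow_mem ((hAF.trans hFHH) ha) _) ?_
    rw [map_pow, hac, hc, ← map_pow, hxk, map_one]
  have hy1 : (a⁻¹ * x) ^ r ^ k = 1 := by
    rw [hcom.mul_pow, inv_pow, ha1, hxk, inv_one, one_mul]
  have hy2 : a⁻¹ * x = 1 := by
    rw [← orderOf_eq_one_iff, Nat.eq_one_iff_not_exists_prime_dvd]
    intro q hq hd
    have hqr := (Nat.prime_dvd_prime_iff_eq hq hr).mp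
      (hq.dvd_of_dvd_pow (hd.trans (orderOf_dvd_of_pow_eq_one hy1)))
    exact hNpi q hq (hd.trans (Subgroup.orderOf_dvd_natCard _ hy)) (hqr ▸ hrπ)
  rw [inv_mul_eq_one] at hy2
  exact hy2 ▸ ha

/-- `C(A) = A × D` with `D` a `π'`-group. -/
theorem exists_complement [Group.IsSolvable G] {π : Set ℕ} (h2 : 2 ∉ π) (h3 : 3 ∉ π)
    {H : Subgroup G} (hH : Cfsg.IsPiHall π H) {A : Subgroup G}
    (hA : Cfsg.IsSCN ((Cfsg.fittingSubgroup H).map H.subtype) A) :
    ∃ D : Subgroup G, D ≤ Subgroup.centralizer (A : Set G) ∧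
      (∀ c ∈ Subgroup.centralizer (A : Set G), ∀ d ∈ D, c * d * c⁻¹ ∈ D) ∧
      A ⊓ D = ⊥ ∧ A ⊔ D = Subgroup.centralizer (A : Set G) ∧
      ∀ q : ℕ, q.Prime → q ∣ Nat.card D → q ∉ π := by
  have key := centralizer_scn h2 h3 hH hA
  obtain ⟨hAF, -, hcen⟩ := hA
  set C := Subgroup.centralizer (A : Set G) with hC
  have hAC : A ≤ C := hcen.ge.trans inf_le_right
  have hApi : ∀ q : ℕ, q.Prime → q ∣ Nat.card ↥(A.subgroupOf C) → q ∈ π := fun q hq hd =>
    hH.1 q hq ((Nat.card_congr (subgroupOfEquivOfLe hAC).toEquiv ▸ hd).trans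
      (Subgroup.card_dvd_of_le (hAF.trans (map_subtype_le _))))
  haveI hn : (A.subgroupOf C).Normal := by
    refine ⟨fun a ha g => ?_⟩
    simp only [mem_subgroupOf, Subgroup.coe_mul, Subgroup.coe_inv] at ha ⊢
    rw [← mem_centralizer_iff.mp g.2 a ha, mul_inv_cancel_right]
    exact ha
  have hidx : ∀ q : ℕ, q.Prime → q ∈ π → ¬ q ∣ (A.subgroupOf C).index := by
    intro q hq hqπ
    haveI : Fact q.Prime := ⟨hq⟩
    obtain ⟨P⟩ : Nonempty (Sylow q ↥C) := inferInstance
    have hPA : (P : Subgroup ↥C) ≤ A.subgroupOf C := by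
      intro x hx
      obtain ⟨k, hk⟩ := P.isPGroup' ⟨x, hx⟩
      exact mem_subgroupOf.mpr (key q hq hqπ x k x.2
        (by simpa using congrArg (fun y : ↥(P : Subgroup ↥C) => ((y : ↥C) : G)) hk))
    exact fun h => P.not_dvd_index (h.trans (Subgroup.index_dvd_of_le hPA))
  have hcop : (Nat.card ↥(A.subgroupOf C)).Coprime (A.subgroupOf C).index :=
    Nat.coprime_of_dvd fun q hq h1 h2' => hidx q hq (hApi q hq h1) h2'
  obtain ⟨D, hD⟩ := Subgroup.exists_right_complement'_of_coprime hcop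
  refine ⟨D.map C.subtype, map_subtype_le D, ?_, ?_, ?_, ?_⟩
  · rintro c hc _ ⟨d, hd, rfl⟩
    obtain ⟨⟨⟨a, ha⟩, e⟩, hae⟩ := hD.2 (⟨c, hc⟩ : ↥C)
    refine ⟨(e : ↥C) * d * (e : ↥C)⁻¹, mul_mem (mul_mem e.2 hd) (inv_mem e.2), ?_⟩
    have h1 : (a : G) * (e : ↥C) = c := congrArg Subtype.val hae
    have hm : ((e : ↥C) * d * (e : ↥C)⁻¹ : ↥C).1 ∈ Subgroup.centralizer (A : Set G) :=
      ((e : ↥C) * d * (e : ↥C)⁻¹).2
    have h2' := mem_centralizer_iff.mp hm (a : G) (mem_subgroupOf.mp ha)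
    show ((e : ↥C) * d * (e : ↥C)⁻¹ : ↥C).1 = c * (d : G) * c⁻¹
    rw [← h1, show (a : G) * (e : ↥C) * d * ((a : G) * (e : ↥C))⁻¹ =
      (a : G) * ((e : ↥C) * d * (e : ↥C)⁻¹ : ↥C).1 * (a : G)⁻¹ by
        simp only [Subgroup.coe_mul, Subgroup.coe_inv]; group, h2', mul_inv_cancel_right]
  · rw [eq_bot_iff]
    rintro x ⟨hx, d, hd, rfl⟩
    exact Subgroup.mem_bot.mpr (congrArg Subtype.val
      (Subgroup.disjoint_def.mp hD.disjoint (mem_subgroupOf.mpr hx) hd))
  · have h1 := congrArg (Subgroup.map C.subtype) hD.sup_eq_top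
    rwa [Subgroup.map_sup, map_subgroupOf_eq_of_le hAC, ← MonoidHom.range_eq_map,
      Subgroup.range_subtype] at h1
  · intro q hq hd hqπ
    rw [Subgroup.card_map_of_injective C.subtype_injective, ← hD.symm.index_eq_card] at hd
    exact hidx q hq hqπ hd

end Cfsg.Agent.ClassTech.SolvableSCN
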