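import Mathlib.Data.ZMod.Basic

/-!
Certificate table: a subgroup of order 168 of `SU 3 (3)` with its action on seven points.
-/

set_option autoImplicit false

namespace Cfsg.Agent.ClassTech.UnitaryCert

/-- A code of an element of the nine element field: the pair of coordinates on `1, i`. -/
abbrev Code : Type := ZMod 3 × ZMod 3

abbrev CMat : Type := (Code × Code × Code) × (Code × Code × Code) × (Code × Code × Code)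

def genU : CMat := (((0, 0), (1, 1), (2, 1)), ((0, 0), (1, 1), (1, 2)), ((1, 0), (0, 0), (0, 0)))

def genL : CMat := (((2, 0), (2, 1), (2, 0)), ((2, 0), (2, 0), (2, 1)), ((2, 2), (0, 2), (0, 2)))

def elems : List (List (Fin 7) × CMat) := [
  ([0, 1, 2, 3, 4, 5, 6], (((1, 0), (0, 0), (0, 0)), ((0, 0), (1, 0), (0, 0)), ((0, 0), (0, 0), (1, 0)))),
  ([6, 2, 3, 5, 0, 4, 1], (((0, 0), (1, 1), (2, 1)), ((0, 0), (1, 1), (1, 2)), ((1, 0), (0, 0), (0, 0)))),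
  ([1, 5, 3, 4, 6, 2, 0], (((2, 0), (2, 1), (2, 0)), ((2, 0), (2, 0), (2, 1)), ((2, 2), (0, 2), (0, 2)))),
  ([1, 3, 5, 4, 6, 0, 2], (((2, 1), (0, 2), (2, 0)), ((1, 2), (0, 2), (2, 0)), ((0, 0), (1, 1), (2, 1)))),
  ([2, 4, 5, 0, 1, 3, 6], (((1, 2), (0, 0), (2, 1)), ((0, 2), (1, 1), (0, 2)), ((2, 0), (2, 1), (2, 0)))),
  ([0, 3, 4, 2, 1, 6, 5], (((2, 0), (0, 2), (1, 1)), ((2, 1), (1, 1), (0, 0)), ((0, 2), (1, 0), (1, 2)))),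
  ([5, 2, 4, 6, 0, 3, 1], (((0, 0), (2, 2), (1, 2)), ((1, 0), (0, 0), (0, 0)), ((0, 0), (1, 1), (1, 2)))),
  ([2, 5, 4, 0, 1, 6, 3], (((2, 0), (2, 2), (2, 0)), ((2, 0), (0, 2), (2, 1)), ((2, 1), (0, 2), (2, 0)))),
  ([3, 0, 4, 6, 2, 5, 1], (((2, 1), (0, 0), (2, 1)), ((0, 0), (0, 1), (0, 0)), ((1, 2), (0, 0), (2, 1)))),
  ([6, 5, 0, 3, 2, 1, 4], (((2, 1), (2, 0), (0, 2)), ((0, 2), (1, 1), (0, 1)), ((2, 0), (0, 2), (1, 1)))),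
  ([4, 3, 0, 1, 6, 5, 2], (((1, 1), (1, 0), (0, 2)), ((1, 1), (2, 0), (0, 1)), ((0, 0), (2, 2), (1, 2)))),
  ([5, 4, 2, 6, 0, 1, 3], (((1, 1), (0, 1), (0, 1)), ((0, 0), (1, 2), (2, 1)), ((1, 2), (2, 0), (2, 0)))),
  ([3, 6, 2, 1, 5, 4, 0], (((1, 2), (2, 2), (0, 0)), ((0, 1), (2, 0), (2, 2)), ((0, 1), (2, 0), (1, 1)))),
  ([1, 4, 6, 3, 5, 0, 2], (((1, 2), (0, 1), (1, 0)), ((0, 0), (1, 1), (2, 1)), ((1, 2), (0, 2), (2, 0)))),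
  ([2, 3, 6, 0, 1, 4, 5], (((2, 1), (0, 0), (1, 2)), ((2, 0), (2, 1), (2, 0)), ((0, 2), (1, 1), (0, 2)))),
  ([3, 4, 0, 6, 2, 1, 5], (((2, 0), (2, 0), (2, 2)), ((2, 1), (0, 1), (0, 1)), ((2, 0), (2, 2), (2, 0)))),
  ([5, 6, 0, 1, 3, 4, 2], (((0, 2), (2, 1), (0, 1)), ((0, 1), (2, 1), (0, 2)), ((2, 1), (0, 0), (2, 1)))),
  ([1, 4, 6, 5, 3, 2, 0], (((2, 1), (1, 0), (0, 1)), ((0, 0), (2, 1), (1, 1)), ((2, 1), (2, 0), (0, 2)))),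
  ([0, 5, 6, 2, 1, 4, 3], (((0, 2), (1, 2), (2, 0)), ((0, 2), (0, 2), (2, 2)), ((1, 1), (1, 0), (0, 2)))),
  ([4, 0, 3, 1, 6, 2, 5], (((0, 2), (0, 2), (2, 2)), ((0, 1), (1, 1), (0, 1)), ((1, 1), (0, 1), (0, 1)))),
  ([5, 1, 3, 2, 4, 0, 6], (((1, 0), (0, 1), (1, 1)), ((0, 2), (1, 0), (2, 1)), ((1, 2), (2, 2), (0, 0)))),
  ([2, 0, 1, 5, 4, 6, 3], (((0, 2), (1, 0), (2, 2)), ((0, 1), (2, 1), (0, 1)), ((1, 2), (0, 1), (1, 0)))),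
  ([3, 5, 1, 6, 2, 0, 4], (((0, 0), (2, 0), (0, 0)), ((1, 1), (0, 0), (1, 1)), ((2, 1), (0, 0), (1, 2)))),
  ([3, 2, 6, 1, 5, 0, 4], (((0, 1), (2, 0), (2, 1)), ((2, 1), (2, 0), (0, 1)), ((2, 0), (1, 2), (2, 0)))),
  ([4, 1, 6, 0, 3, 2, 5], (((0, 0), (2, 2), (2, 1)), ((1, 1), (0, 2), (1, 0)), ((1, 2), (1, 0), (0, 1)))),
  ([0, 2, 1, 4, 3, 5, 6], (((0, 0), (2, 1), (1, 2)), ((2, 2), (1, 0), (1, 0)), ((1, 1), (1, 0), (1, 0)))),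
  ([6, 4, 1, 5, 0, 2, 3], (((0, 2), (1, 0), (1, 1)), ((1, 1), (2, 0), (0, 2)), ((1, 0), (1, 1), (2, 0)))),
  ([2, 6, 3, 0, 1, 5, 4], (((1, 0), (1, 1), (1, 0)), ((2, 1), (0, 2), (2, 0)), ((2, 0), (0, 2), (2, 1)))),
  ([4, 0, 3, 5, 2, 6, 1], (((1, 2), (0, 0), (1, 2)), ((1, 2), (0, 0), (2, 1)), ((0, 0), (0, 1), (0, 0)))),
  ([5, 6, 0, 4, 2, 1, 3], (((1, 2), (1, 0), (0, 1)), ((2, 0), (0, 2), (1, 1)), ((0, 2), (1, 1), (0, 1)))),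
  ([3, 4, 0, 1, 5, 6, 2], (((2, 2), (2, 0), (0, 1)), ((0, 0), (2, 2), (1, 2)), ((1, 1), (2, 0), (0, 1)))),
  ([5, 0, 6, 1, 3, 2, 4], (((2, 2), (1, 1), (0, 0)), ((0, 1), (0, 1), (1, 2)), ((2, 0), (2, 0), (2, 2)))),
  ([4, 1, 6, 2, 5, 0, 3], (((2, 2), (1, 0), (1, 0)), ((2, 0), (1, 0), (1, 1)), ((0, 2), (2, 1), (0, 1)))),
  ([2, 0, 1, 4, 5, 3, 6], (((0, 1), (2, 2), (1, 0)), ((0, 2), (0, 1), (2, 1)), ((2, 1), (1, 0), (0, 1)))),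
  ([6, 4, 1, 3, 2, 0, 5], (((2, 2), (0, 0), (1, 2)), ((0, 2), (2, 1), (2, 0)), ((0, 2), (1, 2), (2, 0)))),
  ([0, 6, 5, 2, 1, 3, 4], (((0, 1), (2, 1), (1, 0)), ((1, 1), (1, 0), (0, 2)), ((0, 2), (0, 2), (2, 2)))),
  ([4, 2, 5, 3, 0, 6, 1], (((1, 1), (0, 1), (1, 0)), ((1, 0), (2, 1), (1, 0)), ((1, 0), (0, 1), (1, 1)))),
  ([3, 6, 2, 4, 0, 1, 5], (((2, 0), (0, 2), (1, 2)), ((2, 2), (2, 1), (0, 0)), ((0, 2), (1, 0), (2, 2)))),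
  ([5, 4, 2, 1, 3, 6, 0], (((0, 0), (0, 0), (0, 1)), ((0, 1), (0, 0), (0, 0)), ((0, 0), (2, 0), (0, 0)))),
  ([5, 3, 1, 2, 4, 6, 0], (((2, 2), (2, 1), (0, 0)), ((0, 1), (2, 0), (1, 2)), ((0, 1), (2, 0), (2, 1)))),
  ([0, 2, 1, 6, 5, 3, 4], (((0, 1), (0, 0), (0, 0)), ((0, 0), (2, 1), (2, 2)), ((0, 0), (2, 2), (2, 1)))),
  ([6, 3, 2, 0, 5, 4, 1], (((1, 1), (0, 2), (0, 2)), ((2, 1), (2, 0), (2, 0)), ((0, 0), (2, 1), (1, 2)))),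
  ([1, 0, 2, 4, 6, 3, 5], (((2, 0), (0, 2), (2, 1)), ((1, 1), (1, 2), (0, 0)), ((0, 2), (1, 0), (1, 1)))),
  ([3, 1, 5, 6, 2, 4, 0], (((2, 2), (2, 0), (2, 0)), ((0, 1), (0, 1), (2, 1)), ((1, 0), (1, 1), (1, 0)))),
  ([0, 6, 5, 4, 3, 1, 2], (((2, 0), (2, 2), (1, 0)), ((2, 0), (1, 1), (1, 0)), ((1, 2), (0, 0), (1, 2)))),
  ([5, 0, 6, 2, 4, 1, 3], (((1, 0), (1, 0), (1, 2)), ((2, 0), (2, 2), (0, 1)), ((2, 2), (2, 0), (0, 1)))),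
  ([4, 6, 1, 0, 3, 5, 2], (((2, 1), (1, 0), (1, 0)), ((0, 1), (0, 2), (2, 2)), ((2, 0), (1, 2), (1, 0)))),
  ([5, 6, 0, 2, 4, 3, 1], (((2, 1), (0, 1), (1, 0)), ((1, 0), (1, 1), (0, 2)), ((0, 1), (0, 1), (1, 1)))),
  ([1, 2, 0, 3, 5, 6, 4], (((0, 1), (2, 2), (0, 1)), ((1, 2), (1, 0), (0, 2)), ((2, 0), (0, 2), (2, 2)))),
  ([6, 1, 4, 5, 0, 3, 2], (((1, 2), (1, 0), (0, 2)), ((1, 0), (1, 2), (0, 2)), ((1, 0), (1, 0), (2, 2)))),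
  ([2, 5, 4, 3, 6, 1, 0], (((2, 2), (0, 1), (2, 0)), ((2, 0), (1, 2), (0, 1)), ((0, 1), (0, 2), (1, 2)))),
  ([3, 1, 5, 2, 6, 0, 4], (((1, 1), (2, 0), (2, 0)), ((0, 2), (2, 1), (0, 1)), ((2, 0), (1, 0), (1, 1)))),
  ([4, 2, 5, 0, 3, 1, 6], (((2, 2), (1, 0), (0, 1)), ((2, 0), (1, 0), (2, 1)), ((2, 0), (1, 1), (0, 1)))),
  ([4, 3, 0, 5, 2, 1, 6], (((1, 0), (1, 0), (1, 1)), ((2, 0), (2, 2), (2, 0)), ((2, 1), (0, 1), (0, 1)))),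
  ([6, 5, 0, 1, 4, 3, 2], (((0, 1), (1, 2), (0, 2)), ((2, 1), (0, 0), (2, 1)), ((0, 1), (2, 1), (0, 2)))),
  ([1, 3, 5, 6, 4, 2, 0], (((1, 2), (2, 0), (0, 2)), ((2, 1), (2, 0), (0, 2)), ((0, 0), (2, 1), (1, 1)))),
  ([3, 0, 4, 1, 5, 2, 6], (((0, 1), (0, 1), (1, 1)), ((1, 1), (0, 1), (0, 1)), ((0, 1), (1, 1), (0, 1)))),
  ([6, 1, 4, 2, 3, 0, 5], (((2, 0), (0, 2), (2, 2)), ((1, 2), (2, 2), (0, 0)), ((0, 2), (1, 0), (2, 1)))),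
  ([2, 0, 1, 6, 3, 5, 4], (((0, 1), (2, 0), (1, 1)), ((1, 2), (0, 1), (1, 0)), ((0, 1), (2, 1), (0, 1)))),
  ([4, 6, 1, 5, 2, 0, 3], (((0, 0), (1, 0), (0, 0)), ((2, 1), (0, 0), (1, 2)), ((1, 1), (0, 0), (1, 1)))),
  ([4, 6, 1, 2, 5, 3, 0], (((0, 0), (0, 0), (1, 0)), ((1, 2), (1, 2), (0, 0)), ((2, 2), (1, 1), (0, 0)))),
  ([0, 2, 1, 3, 4, 6, 5], (((0, 0), (1, 2), (2, 1)), ((1, 1), (1, 0), (1, 0)), ((2, 2), (1, 0), (1, 0)))),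
  ([3, 6, 2, 0, 4, 5, 1], (((1, 0), (1, 2), (0, 2)), ((1, 1), (0, 0), (2, 1)), ((0, 1), (2, 2), (1, 0)))),
  ([1, 0, 2, 5, 3, 6, 4], (((2, 0), (1, 2), (0, 1)), ((0, 1), (1, 1), (1, 0)), ((2, 2), (0, 0), (1, 2)))),
  ([6, 1, 4, 3, 2, 5, 0], (((1, 0), (2, 2), (0, 2)), ((2, 1), (0, 0), (2, 2)), ((0, 1), (2, 1), (1, 0)))),
  ([0, 3, 4, 5, 6, 1, 2], (((0, 2), (0, 2), (2, 1)), ((2, 0), (2, 1), (0, 1)), ((1, 1), (0, 1), (1, 0)))),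
  ([5, 1, 3, 0, 6, 2, 4], (((1, 2), (0, 1), (2, 0)), ((2, 0), (2, 2), (1, 0)), ((2, 0), (0, 2), (1, 2)))),
  ([4, 0, 3, 2, 5, 1, 6], (((2, 1), (1, 2), (0, 0)), ((2, 1), (2, 1), (0, 0)), ((0, 0), (0, 0), (0, 1)))),
  ([4, 5, 2, 3, 0, 1, 6], (((1, 0), (0, 1), (2, 1)), ((0, 2), (1, 0), (2, 2)), ((2, 2), (2, 1), (0, 0)))),
  ([6, 3, 2, 1, 4, 5, 0], (((0, 0), (0, 0), (0, 2)), ((0, 0), (2, 0), (0, 0)), ((0, 1), (0, 0), (0, 0)))),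
  ([1, 5, 3, 6, 4, 0, 2], (((1, 0), (2, 0), (2, 1)), ((1, 0), (2, 1), (2, 0)), ((1, 1), (0, 2), (0, 2)))),
  ([5, 2, 4, 1, 3, 0, 6], (((1, 2), (0, 1), (0, 1)), ((0, 0), (1, 1), (2, 2)), ((2, 2), (2, 0), (2, 0)))),
  ([6, 1, 4, 0, 5, 2, 3], (((2, 1), (0, 2), (1, 0)), ((2, 0), (0, 2), (1, 2)), ((2, 0), (2, 2), (1, 0)))),
  ([4, 6, 1, 3, 0, 2, 5], (((1, 2), (1, 0), (1, 0)), ((0, 2), (2, 2), (0, 2)), ((1, 0), (1, 0), (1, 2)))),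
  ([0, 1, 2, 6, 5, 4, 3], (((0, 0), (1, 1), (2, 2)), ((1, 2), (1, 0), (1, 0)), ((2, 1), (1, 0), (1, 0)))),
  ([4, 1, 6, 3, 0, 5, 2], (((0, 0), (2, 1), (2, 2)), ((2, 2), (1, 0), (0, 2)), ((2, 1), (0, 1), (1, 0)))),
  ([2, 3, 6, 5, 4, 1, 0], (((0, 2), (2, 2), (0, 2)), ((1, 1), (0, 0), (2, 2)), ((0, 1), (2, 2), (0, 1)))),
  ([1, 2, 0, 4, 6, 5, 3], (((0, 2), (1, 1), (0, 2)), ((2, 0), (0, 2), (2, 2)), ((1, 2), (1, 0), (0, 2)))),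
  ([3, 4, 0, 5, 1, 2, 6], (((1, 1), (0, 1), (2, 0)), ((0, 0), (1, 2), (2, 2)), ((2, 2), (0, 1), (2, 0)))),
  ([5, 2, 4, 3, 1, 6, 0], (((2, 1), (0, 1), (0, 1)), ((0, 0), (2, 2), (1, 1)), ((1, 1), (2, 0), (2, 0)))),
  ([0, 3, 4, 6, 5, 2, 1], (((0, 1), (2, 1), (0, 2)), ((1, 0), (0, 1), (2, 1)), ((2, 2), (1, 0), (0, 1)))),
  ([0, 5, 6, 4, 3, 2, 1], (((2, 0), (2, 0), (1, 1)), ((2, 1), (1, 2), (0, 0)), ((1, 0), (1, 0), (1, 1)))),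
  ([1, 4, 6, 2, 0, 5, 3], (((0, 2), (0, 1), (2, 1)), ((2, 1), (0, 2), (0, 2)), ((0, 1), (1, 2), (0, 2)))),
  ([2, 5, 4, 1, 0, 3, 6], (((1, 0), (2, 0), (2, 2)), ((1, 0), (2, 1), (0, 2)), ((1, 2), (2, 0), (0, 2)))),
  ([0, 1, 2, 4, 3, 6, 5], (((2, 0), (0, 0), (0, 0)), ((0, 0), (0, 0), (1, 0)), ((0, 0), (1, 0), (0, 0)))),
  ([2, 1, 0, 5, 4, 3, 6], (((1, 0), (2, 1), (1, 0)), ((2, 2), (0, 0), (1, 1)), ((1, 0), (1, 2), (1, 0)))),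
  ([1, 0, 2, 3, 5, 4, 6], (((1, 0), (0, 1), (1, 2)), ((0, 2), (1, 0), (1, 1)), ((1, 1), (1, 2), (0, 0)))),
  ([6, 3, 2, 4, 1, 0, 5], (((0, 0), (0, 2), (0, 0)), ((0, 0), (0, 0), (2, 0)), ((0, 2), (0, 0), (0, 0)))),
  ([4, 0, 3, 6, 1, 5, 2], (((0, 1), (2, 2), (0, 2)), ((0, 2), (0, 1), (1, 1)), ((2, 2), (0, 1), (0, 1)))),
  ([2, 6, 3, 5, 4, 0, 1], (((2, 2), (1, 0), (0, 2)), ((0, 2), (1, 2), (0, 2)), ((1, 0), (0, 1), (1, 2)))),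
  ([2, 4, 5, 3, 6, 0, 1], (((0, 2), (0, 1), (1, 1)), ((0, 2), (0, 1), (2, 2)), ((2, 2), (2, 2), (0, 0)))),
  ([1, 3, 5, 0, 2, 4, 6], (((0, 2), (1, 2), (0, 2)), ((0, 2), (0, 2), (1, 2)), ((1, 2), (0, 2), (0, 2)))),
  ([0, 4, 3, 1, 2, 6, 5], (((2, 0), (2, 2), (0, 1)), ((0, 1), (1, 2), (1, 0)), ((1, 2), (0, 0), (1, 1)))),
  ([5, 1, 3, 6, 0, 4, 2], (((2, 1), (2, 0), (0, 1)), ((1, 0), (1, 0), (2, 2)), ((1, 0), (1, 2), (0, 2)))),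
  ([4, 5, 2, 0, 3, 6, 1], (((2, 0), (2, 1), (0, 1)), ((0, 1), (2, 2), (1, 0)), ((1, 1), (0, 0), (2, 1)))),
  ([1, 0, 2, 6, 4, 5, 3], (((1, 0), (2, 1), (0, 2)), ((2, 2), (0, 0), (1, 2)), ((0, 1), (1, 1), (1, 0)))),
  ([2, 1, 0, 3, 6, 5, 4], (((1, 0), (2, 0), (1, 2)), ((2, 0), (1, 0), (1, 2)), ((1, 1), (1, 1), (0, 0)))),
  ([6, 0, 5, 1, 4, 2, 3], (((1, 1), (2, 2), (0, 0)), ((2, 0), (2, 0), (2, 2)), ((0, 1), (0, 1), (1, 2)))),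
  ([2, 0, 1, 3, 6, 4, 5], (((0, 2), (1, 1), (2, 0)), ((2, 1), (1, 0), (0, 1)), ((0, 2), (0, 1), (2, 1)))),
  ([5, 3, 1, 4, 2, 0, 6], (((1, 1), (0, 0), (2, 1)), ((0, 2), (1, 2), (2, 0)), ((0, 2), (2, 1), (2, 0)))),
  ([3, 2, 6, 4, 0, 5, 1], (((2, 2), (0, 2), (2, 0)), ((1, 0), (0, 1), (1, 1)), ((1, 0), (2, 1), (1, 0)))),
  ([6, 4, 1, 2, 3, 5, 0], (((1, 1), (1, 2), (0, 0)), ((0, 1), (2, 0), (2, 1)), ((0, 1), (2, 0), (1, 2)))),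
  ([0, 2, 1, 5, 6, 4, 3], (((0, 2), (0, 0), (0, 0)), ((0, 0), (2, 2), (2, 1)), ((0, 0), (2, 1), (2, 2)))),
  ([5, 4, 2, 0, 6, 3, 1], (((2, 2), (0, 1), (0, 1)), ((0, 0), (2, 1), (1, 2)), ((2, 1), (2, 0), (2, 0)))),
  ([4, 1, 6, 5, 2, 3, 0], (((1, 1), (1, 0), (1, 0)), ((1, 0), (1, 1), (1, 0)), ((0, 1), (0, 1), (2, 1)))),
  ([0, 5, 6, 3, 4, 1, 2], (((1, 0), (1, 1), (2, 0)), ((1, 2), (0, 0), (1, 2)), ((2, 0), (1, 1), (1, 0)))),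
  ([3, 1, 5, 0, 4, 2, 6], (((0, 0), (1, 1), (1, 2)), ((1, 2), (1, 0), (0, 1)), ((1, 1), (0, 2), (1, 0)))),
  ([6, 0, 5, 2, 3, 1, 4], (((2, 0), (2, 0), (2, 1)), ((2, 2), (2, 0), (0, 1)), ((2, 0), (2, 2), (0, 1)))),
  ([6, 3, 2, 5, 0, 1, 4], (((2, 2), (0, 2), (0, 2)), ((1, 2), (2, 0), (2, 0)), ((0, 0), (1, 2), (2, 1)))),
  ([2, 6, 3, 4, 5, 1, 0], (((1, 1), (0, 2), (1, 0)), ((0, 1), (0, 2), (1, 2)), ((2, 0), (1, 2), (0, 1)))),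
  ([1, 2, 0, 5, 3, 4, 6], (((0, 2), (0, 1), (2, 2)), ((2, 1), (0, 2), (1, 0)), ((1, 0), (2, 2), (0, 2)))),
  ([6, 5, 0, 4, 1, 2, 3], (((0, 2), (0, 2), (1, 2)), ((1, 2), (2, 1), (0, 0)), ((0, 2), (0, 2), (2, 1)))),
  ([4, 2, 5, 6, 1, 3, 0], (((0, 1), (1, 2), (1, 0)), ((1, 0), (2, 0), (1, 2)), ((1, 2), (0, 1), (2, 0)))),
  ([0, 6, 5, 3, 4, 2, 1], (((1, 0), (1, 0), (2, 2)), ((1, 0), (1, 0), (1, 1)), ((2, 1), (1, 2), (0, 0)))),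
  ([0, 4, 3, 5, 6, 2, 1], (((0, 2), (1, 2), (0, 1)), ((2, 2), (1, 0), (0, 1)), ((1, 0), (0, 1), (2, 1)))),
  ([1, 5, 3, 2, 0, 4, 6], (((2, 2), (2, 2), (0, 0)), ((1, 1), (2, 2), (0, 0)), ((0, 0), (0, 0), (0, 2)))),
  ([2, 4, 5, 1, 0, 6, 3], (((2, 1), (2, 1), (0, 0)), ((0, 1), (0, 2), (1, 1)), ((1, 0), (2, 0), (2, 1)))),
  ([4, 3, 0, 2, 5, 6, 1], (((2, 0), (1, 1), (1, 0)), ((1, 0), (2, 0), (2, 2)), ((1, 2), (0, 1), (0, 1)))),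
  ([1, 2, 0, 6, 4, 3, 5], (((0, 1), (0, 2), (1, 1)), ((1, 0), (2, 2), (0, 2)), ((2, 1), (0, 2), (1, 0)))),
  ([0, 1, 2, 5, 6, 3, 4], (((0, 0), (2, 2), (1, 1)), ((2, 1), (1, 0), (1, 0)), ((1, 2), (1, 0), (1, 0)))),
  ([6, 2, 3, 1, 4, 0, 5], (((2, 1), (0, 2), (0, 2)), ((2, 2), (2, 0), (2, 0)), ((0, 0), (1, 1), (2, 2)))),
  ([3, 5, 1, 4, 0, 2, 6], (((2, 1), (2, 0), (2, 0)), ((1, 0), (1, 0), (1, 2)), ((0, 2), (2, 2), (0, 2)))),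
  ([5, 0, 6, 4, 2, 3, 1], (((2, 0), (1, 2), (1, 0)), ((1, 0), (0, 1), (2, 2)), ((1, 1), (0, 1), (2, 0)))),
  ([6, 4, 1, 0, 5, 3, 2], (((0, 1), (1, 1), (1, 0)), ((2, 2), (0, 2), (2, 0)), ((2, 0), (2, 0), (1, 1)))),
  ([3, 4, 0, 2, 6, 5, 1], (((1, 0), (2, 2), (2, 0)), ((1, 2), (0, 1), (0, 1)), ((1, 0), (2, 0), (2, 2)))),
  ([6, 2, 3, 0, 5, 1, 4], (((0, 0), (2, 1), (1, 1)), ((0, 0), (1, 2), (1, 1)), ((2, 0), (0, 0), (0, 0)))),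
  ([1, 5, 3, 0, 2, 6, 4], (((1, 1), (0, 0), (2, 2)), ((2, 2), (0, 0), (2, 2)), ((0, 0), (0, 2), (0, 0)))),
  ([0, 6, 5, 1, 2, 4, 3], (((0, 2), (1, 0), (2, 1)), ((2, 2), (0, 2), (1, 0)), ((0, 1), (2, 2), (0, 2)))),
  ([3, 1, 5, 4, 0, 6, 2], (((0, 0), (1, 2), (1, 1)), ((2, 1), (0, 1), (1, 0)), ((2, 2), (1, 0), (0, 2)))),
  ([3, 0, 4, 5, 1, 6, 2], (((0, 2), (1, 1), (0, 1)), ((2, 2), (0, 1), (0, 1)), ((0, 2), (0, 1), (1, 1)))),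
  ([2, 5, 4, 6, 3, 0, 1], (((1, 1), (2, 0), (0, 1)), ((1, 0), (0, 1), (1, 2)), ((0, 2), (1, 2), (0, 2)))),
  ([4, 2, 5, 1, 6, 0, 3], (((0, 2), (1, 0), (1, 2)), ((2, 0), (1, 2), (2, 0)), ((2, 1), (2, 0), (0, 1)))),
  ([0, 4, 3, 6, 5, 1, 2], (((0, 1), (0, 1), (1, 2)), ((1, 1), (0, 1), (1, 0)), ((2, 0), (2, 1), (0, 1)))),
  ([2, 6, 3, 1, 0, 4, 5], (((2, 0), (1, 0), (1, 1)), ((1, 2), (2, 0), (0, 2)), ((1, 0), (2, 1), (0, 2)))),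
  ([3, 2, 6, 5, 1, 4, 0], (((0, 2), (2, 1), (2, 0)), ((1, 2), (0, 1), (2, 0)), ((1, 0), (2, 0), (1, 2)))),
  ([1, 6, 4, 2, 0, 3, 5], (((1, 1), (1, 1), (0, 0)), ((0, 0), (0, 0), (0, 2)), ((1, 1), (2, 2), (0, 0)))),
  ([3, 6, 2, 5, 1, 0, 4], (((2, 1), (0, 0), (2, 2)), ((0, 2), (2, 2), (2, 0)), ((0, 2), (1, 1), (2, 0)))),
  ([5, 3, 1, 0, 6, 4, 2], (((0, 2), (2, 2), (2, 0)), ((2, 0), (2, 0), (1, 1)), ((2, 2), (0, 2), (2, 0)))),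
  ([1, 6, 4, 3, 5, 2, 0], (((1, 0), (1, 2), (1, 0)), ((2, 2), (0, 2), (0, 2)), ((2, 0), (2, 0), (2, 1)))),
  ([6, 0, 5, 3, 2, 4, 1], (((1, 0), (2, 1), (2, 0)), ((1, 1), (0, 1), (2, 0)), ((1, 0), (0, 1), (2, 2)))),
  ([6, 2, 3, 4, 1, 5, 0], (((1, 2), (0, 2), (0, 2)), ((1, 1), (2, 0), (2, 0)), ((0, 0), (2, 2), (1, 1)))),
  ([5, 2, 4, 0, 6, 1, 3], (((0, 0), (1, 2), (2, 2)), ((2, 0), (0, 0), (0, 0)), ((0, 0), (1, 2), (1, 1)))),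
  ([0, 5, 6, 1, 2, 3, 4], (((0, 1), (2, 0), (1, 2)), ((0, 1), (2, 2), (0, 2)), ((2, 2), (0, 2), (1, 0)))),
  ([6, 0, 5, 4, 1, 3, 2], (((2, 2), (0, 0), (2, 2)), ((1, 0), (2, 2), (2, 0)), ((0, 2), (1, 2), (0, 1)))),
  ([5, 3, 1, 6, 0, 2, 4], (((0, 1), (2, 0), (2, 2)), ((1, 0), (1, 1), (2, 0)), ((1, 1), (2, 0), (0, 2)))),
  ([2, 3, 6, 4, 5, 0, 1], (((0, 1), (0, 2), (2, 2)), ((2, 2), (2, 2), (0, 0)), ((0, 2), (0, 1), (2, 2)))),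
  ([1, 4, 6, 0, 2, 3, 5], (((0, 1), (2, 1), (0, 1)), ((1, 2), (0, 2), (0, 2)), ((0, 2), (0, 2), (1, 2)))),
  ([5, 6, 0, 3, 1, 2, 4], (((0, 1), (0, 1), (2, 1)), ((0, 2), (0, 2), (2, 1)), ((1, 2), (2, 1), (0, 0)))),
  ([3, 5, 1, 2, 6, 4, 0], (((0, 0), (0, 0), (2, 0)), ((2, 2), (1, 1), (0, 0)), ((1, 2), (1, 2), (0, 0)))),
  ([5, 1, 3, 4, 2, 6, 0], (((2, 0), (1, 1), (0, 1)), ((0, 1), (2, 1), (1, 0)), ((2, 1), (0, 0), (2, 2)))),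
  ([3, 0, 4, 2, 6, 1, 5], (((1, 2), (2, 1), (0, 0)), ((0, 0), (0, 0), (0, 1)), ((2, 1), (2, 1), (0, 0)))),
  ([1, 6, 4, 5, 3, 0, 2], (((2, 0), (1, 0), (1, 2)), ((1, 1), (0, 2), (0, 2)), ((1, 0), (2, 1), (2, 0)))),
  ([2, 4, 5, 6, 3, 1, 0], (((0, 1), (1, 1), (0, 1)), ((0, 1), (2, 2), (0, 1)), ((1, 1), (0, 0), (2, 2)))),
  ([4, 3, 0, 6, 1, 2, 5], (((2, 2), (0, 2), (1, 0)), ((2, 2), (0, 1), (2, 0)), ((0, 0), (1, 2), (2, 2)))),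
  ([1, 3, 5, 2, 0, 6, 4], (((0, 1), (0, 2), (1, 2)), ((0, 1), (1, 2), (0, 2)), ((2, 1), (0, 2), (0, 2)))),
  ([6, 5, 0, 2, 3, 4, 1], (((1, 2), (0, 2), (2, 0)), ((0, 1), (0, 1), (1, 1)), ((1, 0), (1, 1), (0, 2)))),
  ([4, 5, 2, 1, 6, 3, 0], (((2, 1), (1, 1), (0, 0)), ((0, 1), (2, 0), (1, 1)), ((0, 1), (2, 0), (2, 2)))),
  ([0, 3, 4, 1, 2, 5, 6], (((1, 0), (1, 1), (0, 2)), ((1, 2), (0, 0), (1, 1)), ((0, 1), (1, 2), (1, 0)))),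
  ([2, 3, 6, 1, 0, 5, 4], (((1, 2), (1, 2), (0, 0)), ((1, 0), (2, 0), (2, 1)), ((0, 1), (0, 2), (1, 1)))),
  ([5, 0, 6, 3, 1, 4, 2], (((1, 1), (0, 0), (1, 1)), ((0, 2), (1, 2), (0, 1)), ((1, 0), (2, 2), (2, 0)))),
  ([4, 5, 2, 6, 1, 0, 3], (((1, 2), (0, 0), (1, 1)), ((0, 2), (1, 1), (2, 0)), ((0, 2), (2, 2), (2, 0)))),
  ([1, 6, 4, 0, 2, 5, 3], (((2, 2), (0, 0), (1, 1)), ((0, 0), (0, 2), (0, 0)), ((2, 2), (0, 0), (2, 2)))),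
  ([3, 5, 1, 0, 4, 6, 2], (((1, 2), (2, 0), (2, 0)), ((2, 0), (1, 2), (1, 0)), ((0, 1), (0, 2), (2, 2)))),
  ([5, 4, 2, 3, 1, 0, 6], (((0, 0), (0, 1), (0, 0)), ((0, 2), (0, 0), (0, 0)), ((0, 0), (0, 0), (2, 0)))),
  ([2, 1, 0, 4, 5, 6, 3], (((2, 0), (1, 0), (2, 1)), ((1, 1), (1, 1), (0, 0)), ((2, 0), (1, 0), (1, 2)))),
  ([0, 4, 3, 2, 1, 5, 6], (((1, 0), (0, 1), (2, 2)), ((0, 2), (1, 0), (1, 2)), ((2, 1), (1, 1), (0, 0)))),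
  ([2, 1, 0, 6, 3, 4, 5], (((2, 0), (1, 2), (2, 0)), ((1, 0), (1, 2), (1, 0)), ((2, 2), (0, 0), (1, 1)))),
  ([3, 2, 6, 0, 4, 1, 5], (((1, 1), (2, 0), (0, 2)), ((2, 0), (1, 1), (0, 1)), ((2, 0), (1, 0), (2, 1))))]

def nextU : List ℕ := [1, 3, 5, 7, 9, 11, 13, 15, 17, 19, 21, 23, 25, 27, 29, 31, 33, 35, 37, 39, 41, 43, 24, 46, 47, 49, 51, 53, 55, 56, 58, 60, 62, 64, 66, 68, 70, 71, 40, 74, 75, 77, 79, 81, 83, 12, 85, 86, 88, 90, 92, 94, 54, 97, 98, 18, 101, 103, 104, 106, 0, 93, 110, 112, 114, 116, 117, 69, 120, 102, 14, 123, 124, 20, 100, 89, 127, 129, 107, 132, 82, 135, 136, 34, 6, 139, 140, 141, 76, 91, 126, 111, 144, 145, 118, 134, 28, 148, 149, 72, 151, 119, 128, 48, 113, 133, 155, 156, 131, 157, 143, 150, 105, 115, 154, 87, 22, 95, 159, 36, 137, 57, 138, 96,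 63, 10, 153, 121, 130, 152, 146, 162, 158, 99, 44, 163, 52, 164, 165, 2, 65, 30, 73, 50, 32, 161, 147, 67, 84, 80, 38, 4, 142, 45, 160, 42, 61, 26, 59, 109, 167, 78, 166, 125, 8, 108, 122, 16]

def nextL : List ℕ := [2, 4, 6, 8, 10, 12, 14, 16, 18, 20, 22, 24, 26, 28, 30, 32, 34, 36, 38, 40, 42, 44, 45, 21, 48, 50, 52, 54, 35, 57, 59, 61, 63, 65, 67, 69, 27, 72, 73, 37, 76, 78, 80, 82, 64, 84, 9, 87, 89, 91, 93, 95, 96, 51, 99, 100, 102, 86, 105, 107, 108, 109, 111, 113, 115, 43, 118, 119, 66, 121, 122, 98, 110, 125, 17, 126, 128, 130, 131, 133, 134, 79, 94, 137, 138, 3, 114, 56, 142, 143, 88, 124, 60, 146, 147, 81, 70, 25, 132, 150, 7, 68, 152, 153, 154, 149, 77, 0, 106, 49, 90, 71, 158, 140, 112, 103, 46, 136, 145, 55, 33, 141, 5, 53, 160, 85, 47, 101, 161, 127,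 159, 58, 104, 123, 116, 41, 97, 15, 1, 165, 83, 166, 39, 157, 167, 129, 117, 120, 11, 135, 74, 139, 75, 23, 62, 163, 144, 148, 162, 92, 31, 155, 29, 19, 151, 156, 13, 164]

end Cfsg.Agent.ClassTech.UnitaryCert
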